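import Cfsg.Agent.CentralIndexFour.Fused
import Cfsg.Agent.Transfer.Control
import Cfsg.Agent.InvolCalc.ZStarApps
import Cfsg.Agent.InvolCalc.Dihedral
import Cfsg.Agent.TwoFusion.Product.Main

/-!
A finite simple group with a nonabelian Sylow 2-subgroup with centre of index four has dihedral Sylow
2-subgroups of order eight.
-/

set_option autoImplicit false
set_option linter.unusedSectionVars false
set_option linter.style.haveILetI false

namespace Cfsg.Lib.CentralFour

open Subgroup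
open scoped commutatorElement

universe u

variable {G : Type u} [Group G] [Finite G]

theorem simple_pPrimeCore_eq_bot [IsSimpleGroup G] {z : G} (hz : orderOf z = 2) : Cfsg.pPrimeCore 2 G = ⊥ := by
  have hodd := Cfsg.Lib.ZStarApps.odd_card_pPrimeCore (G := G)
  haveI : (Cfsg.pPrimeCore 2 G).Normal := Cfsg.Lib.Components.pPrimeCore_normal' 2
  rcases (inferInstance : (Cfsg.pPrimeCore 2 G).Normal).eq_bot_or_eq_top with h | h
  · exact h
  · rw [h, Subgroup.card_top] at hodd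
    exact absurd ((hz ▸ orderOf_dvd_natCard z : 2 ∣ Nat.card G)) hodd.not_two_dvd_nat

theorem simple_center_eq_bot [IsSimpleGroup G] (hna : ¬ IsMulCommutative G) : center G = ⊥ := by
  rcases (inferInstance : (center G).Normal).eq_bot_or_eq_top with h | h
  · exact h
  · exact absurd ⟨⟨fun a b => (mem_center_iff.1 (h ▸ mem_top a : a ∈ center G) b).symm⟩⟩ hna

theorem simple_pResidual_eq_top [IsSimpleGroup G] (hna : ¬ IsMulCommutative G) (P : Sylow 2 G)
    (hP : ∃ z ∈ (P : Subgroup G), z ≠ 1 ∧ ∀ q ∈ (P : Subgroup G), Commute q z) : Cfsg.pResidual 2 G = ⊤ := by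
  haveI : Fact (Nat.Prime 2) := ⟨Nat.prime_two⟩
  haveI : (Cfsg.pResidual 2 G).Normal := Cfsg.Lib.Transfer.pResidual_normal'
  rcases (inferInstance : (Cfsg.pResidual 2 G).Normal).eq_bot_or_eq_top with h | h
  · have hs := Cfsg.Lib.Transfer.pResidual_sup_sylow P
    rw [h, bot_sup_eq] at hs
    obtain ⟨z, -, hz1, hzc⟩ := hP
    refine absurd ?_ hz1
    rw [← Subgroup.mem_bot, ← simple_center_eq_bot hna]
    exact mem_center_iff.2 fun q => (hzc q (hs ▸ mem_top q)).eq
  · exact h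

namespace Ctx

variable {P : Sylow 2 G} (c : Ctx P)
include c

theorem exists_cl [IsSimpleGroup G] (hna : ¬ IsMulCommutative G) :
    ∃ s ∈ (P : Subgroup G), s ∉ Zc P ∧ c.Cl s := by
  by_contra h
  push Not at h
  have hiso : Cfsg.IsIsolatedInvolution c.z := by
    refine ⟨c.z_order, fun g hg => ?_⟩
    set y := g * c.z * g⁻¹ with hy
    have hT : IsPGroup 2 (zpowers c.z ⊔ zpowers y : Subgroup G) := by
      refine IsPGroup.to_sup_of_normal_right' (P.2.to_le (zpowers_le.2 c.z_P)) ?_ ?_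
      · rw [hy]
        have := IsPGroup.map (P.2.to_le (zpowers_le.2 c.z_P)) (MulAut.conj g).toMonoidHom
        rwa [MonoidHom.map_zpowers] at this
      · refine le_normalizer_iff.2 fun a ha b hb => ?_
        obtain ⟨i, rfl⟩ := mem_zpowers_iff.1 ha
        obtain ⟨j, rfl⟩ := mem_zpowers_iff.1 hb
        rw [((hg.zpow_left i).zpow_right j).eq, mul_inv_cancel_right]
        exact zpow_mem (mem_zpowers y) j
    obtain ⟨a, -, ha⟩ := exists_conj_into (P := P) (H := ⊤) le_top hT le_top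
    have key : ∀ x, x ∈ (P : Subgroup G) → c.Cl x → x = c.z := fun x hx hcl =>
      c.cl_Zc hcl (by_contra fun hn => h x hx hn hcl)
    have h1 := key _ (ha _ (mem_sup_left (mem_zpowers c.z))) (c.cl_conj c.cl_self a)
    have h2 := key _ (ha _ (mem_sup_right (mem_zpowers y))) (c.cl_conj ⟨g, rfl⟩ a)
    exact mul_left_cancel (mul_right_cancel (h2.trans h1.symm))
  have hz := Cfsg.Lib.ZStarApps.zstarProp hiso
  rw [simple_pPrimeCore_eq_bot c.z_order] at hz
  refine c.z1 ?_
  rw [← Subgroup.mem_bot, ← simple_center_eq_bot hna]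
  refine mem_center_iff.2 fun g => ?_
  exact ((commute_iff_eq _ _).1 (mul_inv_eq_iff_eq_mul.1 (mul_inv_eq_one.1 (Subgroup.mem_bot.1 (hz g))))).symm

/-- Elements of the subgroup generated by two noncommuting conjugates of `z`. -/
theorem closure_cases {s t a : G} (hs : s ∈ (P : Subgroup G)) (hcls : c.Cl s) (ht : t ∈ (P : Subgroup G))
    (hclt : c.Cl t) (hst : ¬ Commute s t) (ha : a ∈ closure ({s, t} : Set G)) :
    ∃ v : G, (v = 1 ∨ v = s ∨ v = t ∨ v = t * s) ∧ (a = v ∨ a = v * c.z) := by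
  have e1 := c.cl_sq hcls
  have e2 := c.cl_sq hclt
  have hsts : s * t * s = t * c.z := by
    have := (c.comm_cases ht hs).resolve_left fun h => hst (mul_inv_eq_iff_eq_mul.1 h)
    rwa [inv_eq_of_mul_eq_one_right e1] at this
  have cz : ∀ {v}, v ∈ (P : Subgroup G) → v * c.z * c.z = v := fun {v} _ => by rw [mul_assoc, c.z_sq, mul_one]
  have hS : ∀ v, (v = 1 ∨ v = s ∨ v = t ∨ v = t * s) →
      ∃ w, (w = 1 ∨ w = s ∨ w = t ∨ w = t * s) ∧ (s * v = w ∨ s * v = w * c.z) := by
    rintro v (e | e | e | e) <;> rw [e]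
    · exact ⟨s, by simp, Or.inl (mul_one s)⟩
    · exact ⟨1, by simp, Or.inl e1⟩
    · refine ⟨t * s, by simp, Or.inr ?_⟩
      calc s * t = s * t * s * s := by rw [mul_assoc (s * t), e1, mul_one]
        _ = t * c.z * s := by rw [hsts]
        _ = t * s * c.z := by rw [mul_assoc t, mul_assoc t, (c.central c.z_mem hs).eq]
    · exact ⟨t, by simp, Or.inr (by rw [← mul_assoc, hsts])⟩
  have hT : ∀ v, (v = 1 ∨ v = s ∨ v = t ∨ v = t * s) →
      ∃ w, (w = 1 ∨ w = s ∨ w = t ∨ w = t * s) ∧ (t * v = w ∨ t * v = w * c.z) := by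
    rintro v (e | e | e | e) <;> rw [e]
    · exact ⟨t, by simp, Or.inl (mul_one t)⟩
    · exact ⟨_, Or.inr (Or.inr (Or.inr rfl)), Or.inl rfl⟩
    · exact ⟨1, by simp, Or.inl e2⟩
    · exact ⟨s, by simp, Or.inl (by rw [← mul_assoc, e2, one_mul])⟩
  have step : ∀ {x b : G}, (∀ v, (v = 1 ∨ v = s ∨ v = t ∨ v = t * s) →
      ∃ w, (w = 1 ∨ w = s ∨ w = t ∨ w = t * s) ∧ (x * v = w ∨ x * v = w * c.z)) →
      (∃ v, (v = 1 ∨ v = s ∨ v = t ∨ v = t * s) ∧ (b = v ∨ b = v * c.z)) →
      ∃ v, (v = 1 ∨ v = s ∨ v = t ∨ v = t * s) ∧ (x * b = v ∨ x * b = v * c.z) := by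
    rintro x b hx ⟨v, hv, hb⟩
    obtain ⟨w, hw, hxv⟩ := hx v hv
    refine ⟨w, hw, ?_⟩
    rcases hb with rfl | rfl
    · exact hxv
    · rcases hxv with h | h <;> rw [← mul_assoc, h]
      · exact Or.inr rfl
      · exact Or.inl (by rw [mul_assoc, c.z_sq, mul_one])
  induction ha using closure_induction_left with
  | one => exact ⟨1, Or.inl rfl, Or.inl rfl⟩
  | mul_left x hx y hy ih =>
    rcases hx with rfl | rfl
    exacts [step hS ih, step hT ih]
  | inv_mul_cancel x hx y hy ih =>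
    rcases hx with rfl | rfl
    · rw [inv_eq_of_mul_eq_one_right e1]; exact step hS ih
    · rw [inv_eq_of_mul_eq_one_right e2]; exact step hT ih

theorem dihedral [IsSimpleGroup G] (hna : ¬ IsMulCommutative G) :
    Nonempty ((P : Subgroup G) ≃* DihedralGroup 4) := by
  haveI : Fact (Nat.Prime 2) := ⟨Nat.prime_two⟩
  obtain ⟨s, hs, hsZ, hcls⟩ := c.exists_cl hna
  have hres := simple_pResidual_eq_top hna P ⟨c.z, c.z_P, c.z1, fun q hq => c.central c.z_mem hq⟩
  have hfoc : (P : Subgroup G) ≤ c.S₁ ⊔ c.E := by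
    have := Cfsg.Lib.Transfer.pResidual_inf_le_focal P
    rw [hres, top_inf_eq] at this
    exact this.trans (c.focal_le hs hsZ hcls)
  have hEP : c.E ≤ (P : Subgroup G) := c.E_le.trans c.Zc_le
  have hEc : ∀ a ∈ (P : Subgroup G), ∀ b ∈ c.E, Commute a b := fun a ha b hb => c.central (c.E_le hb) ha
  obtain ⟨t, ht, htZ, hclt, hst⟩ : ∃ t ∈ (P : Subgroup G), t ∉ Zc P ∧ c.Cl t ∧ ¬ Commute s t := by
    by_contra h
    push Not at h
    have h1 : (P : Subgroup G) ≤ c.CP s := by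
      refine hfoc.trans (sup_le ((closure_le _).2 fun x hx => ?_) (c.E_le.trans (c.Zc_le_CP hs)))
      by_cases hxZ : x ∈ Zc P
      · exact c.Zc_le_CP hs hxZ
      · exact c.mem_CP.2 ⟨hx.1, (h x hx.1 hxZ hx.2).symm⟩
    obtain ⟨q, hq, hqs⟩ := c.exists_mover hs hsZ
    rw [((c.mem_CP.1 (h1 hq)).2).eq, mul_inv_cancel_right] at hqs
    exact c.z1 (mul_eq_left.1 hqs.symm)
  set u := t * s with hu
  have hmv : t * s * t⁻¹ = s * c.z :=
    (c.comm_cases hs ht).resolve_left fun h => hst (mul_inv_eq_iff_eq_mul.1 h).symm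
  have hu2 : u * u = c.z := by
    rw [inv_eq_of_mul_eq_one_right (c.cl_sq hclt)] at hmv
    rw [hu, show t * s * (t * s) = t * s * t * s by group, hmv, mul_assoc, ← (c.central c.z_mem hs).eq, ← mul_assoc,
      c.cl_sq hcls, one_mul]
  have hS1 : c.S₁ = closure ({s, t} : Set G) := by
    refine le_antisymm ((closure_le _).2 fun x hx => ?_) ((closure_le _).2 ?_)
    · have hzm : c.z ∈ closure ({s, t} : Set G) :=
        hu2 ▸ mul_mem (mul_mem (subset_closure (by simp)) (subset_closure (by simp)))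
          (mul_mem (subset_closure (by simp)) (subset_closure (by simp)))
      by_cases hxZ : x ∈ Zc P
      · rw [c.cl_Zc hx.2 hxZ]; exact hzm
      rcases c.cl_cases hs hsZ hcls ht htZ hclt hst hx.1 hxZ hx.2 with rfl | rfl | rfl | rfl
      exacts [subset_closure (by simp), mul_mem (subset_closure (by simp)) hzm, subset_closure (by simp),
        mul_mem (subset_closure (by simp)) hzm]
    · rintro x (rfl | rfl)
      exacts [c.cl_mem hs hcls, c.cl_mem ht hclt]
  have huP : u ∈ (P : Subgroup G) := mul_mem ht hs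
  have huZ : u ∉ Zc P := fun h => hst (by
    have h1 := c.central h hs
    rw [hu] at h1
    have := h1.mul_right (Commute.refl s).inv_right
    rwa [mul_inv_cancel_right] at this)
  have hzE : c.z ∉ c.E := c.z_not_E hs hsZ hcls
  have hv : ∀ {v}, (v = 1 ∨ v = s ∨ v = t ∨ v = u) → v ∈ Zc P → v = 1 := by
    rintro v (rfl | rfl | rfl | rfl) h
    exacts [rfl, absurd h hsZ, absurd h htZ, absurd h huZ]
  have hdis : c.S₁ ⊓ c.E = ⊥ := by
    refine (eq_bot_iff_forall _).2 fun a ha => ?_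
    obtain ⟨v, hv4, e⟩ := c.closure_cases hs hcls ht hclt hst (hS1 ▸ ha.1)
    rcases e with rfl | rfl
    · exact hv hv4 (c.E_le ha.2)
    · have : v = 1 := hv hv4 (by
        have := mul_mem (c.E_le ha.2) (inv_mem c.z_mem)
        rwa [mul_inv_cancel_right] at this)
      subst this
      exact absurd (by simpa using ha.2) hzE
  have hSE : Cfsg.IsStronglyClosed c.E (P : Subgroup G) := by
    refine ⟨hEP, fun x hx g hy => ?_⟩
    by_cases hyZ : g * x * g⁻¹ ∈ Zc P
    · obtain ⟨n, hn, e⟩ := c.fusion_Zc (c.E_le hx) hyZ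
      rw [e]; exact c.E_conj hn hx
    · exfalso
      obtain ⟨w, n, hw, hwP, hwZ, hn, e, hb⟩ := c.fusion_in_out (c.E_le hx) hy hyZ rfl
      obtain ⟨b, hbt⟩ := c.exists_turn hwP hwZ hw
      have h1 := hb b hbt
      rw [e] at h1
      have h2 := c.turn_fix_E hwP hwZ hw hbt (c.E_conj hn hx)
      rw [show b * (w * (c.z * (n * x * n⁻¹))) * b⁻¹ =
        b * w * b⁻¹ * ((b * c.z * b⁻¹) * (b * (n * x * n⁻¹) * b⁻¹)) by group, hbt.s_fix, hbt.z_to, h2] at h1
      exact c.cl_ne_one hw (mul_eq_left.1 (mul_right_cancel (mul_left_cancel h1)))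
  have hSS : Cfsg.IsStronglyClosed c.S₁ (P : Subgroup G) := by
    refine ⟨c.S₁_le, fun x hx g hy => ?_⟩
    obtain ⟨v, hv4, e⟩ := c.closure_cases hs hcls ht hclt hst (hS1 ▸ hx)
    have hcases : x = 1 ∨ c.Cl x ∨ x * x = c.z := by
      rcases hv4 with rfl | rfl | rfl | rfl <;> rcases e with rfl | rfl
      · exact Or.inl rfl
      · exact Or.inr (Or.inl (by rw [one_mul]; exact c.cl_self))
      · exact Or.inr (Or.inl hcls)
      · exact Or.inr (Or.inl (c.cl_mul_z hs hsZ hcls))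
      · exact Or.inr (Or.inl hclt)
      · exact Or.inr (Or.inl (c.cl_mul_z ht htZ hclt))
      · exact Or.inr (Or.inr hu2)
      · refine Or.inr (Or.inr ?_)
        rw [mul_assoc, ← mul_assoc c.z, ← (c.central c.z_mem huP).eq, mul_assoc u c.z c.z, c.z_sq, mul_one, hu2]
    rcases hcases with rfl | hcl | hx2
    · simp
    · exact c.cl_mem hy (c.cl_conj hcl g)
    set y := g * x * g⁻¹ with hy_def
    have hy2 : y * y = c.z := by
      have hcl : c.Cl (y * y) := ⟨g, by rw [hy_def, ← hx2]; group⟩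
      exact c.cl_Zc hcl (c.sq_mem hy)
    have hnc : ¬ c.ConjZ y := fun ⟨k, hk⟩ => by
      refine c.no_root hs hsZ hcls hk (c.cl_Zc ⟨k, ?_⟩ (mul_mem hk hk))
      rw [← hy2]; group
    obtain ⟨n, h, hn, hu', huZ', hh, e⟩ := c.fusion_out (c.S₁_le hx) hy hnc hy_def.symm
    have hux : n * x * n⁻¹ ∈ c.S₁ := c.S₁_conj hn hx
    have hhz : h * c.z * h⁻¹ = c.z := by
      calc h * c.z * h⁻¹ = (h * (n * x * n⁻¹) * h⁻¹) * (h * (n * x * n⁻¹) * h⁻¹) := by
            rw [← c.normalizer_fix_z hn, ← hx2]; group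
        _ = c.z := by rw [← e, hy2]
    have hyZ : y ∉ Zc P := fun h => hnc ⟨1, by simpa using h⟩
    obtain ⟨n', hn', e'⟩ := c.fixz hy hyZ hh hhz
    rw [e, e' _ hu']
    exact c.S₁_conj hn' hux
  have hcomm := Cfsg.Lib.ProdFusion.product_fusion G P c.S₁ c.E hSS hSE
    (fun a ha b hb => (hEc a (c.S₁_le ha) b hb).eq) hdis
  rw [simple_pPrimeCore_eq_bot c.z_order] at hcomm
  have hE : c.E = ⊥ := by
    by_contra hne
    have htop : ∀ {A : Subgroup G}, A ≠ ⊥ → normalClosure (A : Set G) = ⊤ := fun {A} hA =>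
      ((inferInstance : (normalClosure (A : Set G)).Normal).eq_bot_or_eq_top).resolve_left fun h =>
        hA (le_bot_iff.1 (h ▸ (le_normalClosure : A ≤ normalClosure (A : Set G))))
    have hS1ne : c.S₁ ≠ ⊥ := fun h => c.z1 (Subgroup.mem_bot.1 (h ▸ c.z_mem_S₁))
    rw [htop hS1ne, htop hne] at hcomm
    exact hna ⟨⟨fun a b => commutatorElement_eq_one_iff_mul_comm.1
      (Subgroup.mem_bot.1 (hcomm (commutator_mem_commutator (mem_top a) (mem_top b))))⟩⟩
  have hPS : (P : Subgroup G) = closure ({s, t} : Set G) := by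
    rw [← hS1]
    refine le_antisymm (hfoc.trans (by rw [hE, sup_bot_eq])) c.S₁_le
  have ho : ∀ {x}, c.Cl x → orderOf x = 2 := fun {x} hx =>
    Cfsg.Lib.InvolCalc.order_two_of_mul_self (c.cl_sq hx) (c.cl_ne_one hx)
  obtain ⟨f⟩ := Cfsg.Lib.InvolCalc.exists_dihedral_equiv (ho hclt) (ho hcls)
    (fun h => hst (by rw [h]))
  have h4 : orderOf (t * s) = 4 := by
    refine orderOf_eq_prime_pow (p := 2) (n := 1) (fun h => c.z1 ?_) ?_
    · rw [pow_one, pow_two] at h; exact hu2 ▸ h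
    · rw [show (2 : ℕ) ^ (1 + 1) = 2 + 2 by rfl, pow_add, pow_two, ← hu, hu2, c.z_sq]
  rw [h4, Set.pair_comm] at f
  exact ⟨(MulEquiv.subgroupCongr hPS).trans f⟩

end Ctx

end Cfsg.Lib.CentralFour
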