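import Cfsg.Agent.CentralIndexFour.Dihedral
import Cfsg.Agent.Coprime.MaximalInvariant
import Cfsg.Agent.Transfer.Control

/-!
An elementary abelian Sylow 2-subgroup of a simple group has no nontrivial subgroup invariant under its
normaliser other than itself.
-/

set_option autoImplicit false
set_option linter.unusedSectionVars false
set_option linter.style.haveILetI false

namespace Cfsg.Lib.CentralFour

open Subgroup
open scoped commutatorElement

universe u

variable {X : Type u} [Group X] [Finite X]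

theorem invariant_trivial [IsSimpleGroup X] (hna : ¬ IsMulCommutative X) (Q : Sylow 2 X)
    (hc : ∀ a ∈ (Q : Subgroup X), ∀ b ∈ (Q : Subgroup X), a * b = b * a)
    (he : ∀ a ∈ (Q : Subgroup X), a * a = 1) (hQ : (Q : Subgroup X) ≠ ⊥) (R : Subgroup X)
    (hR : R ≤ (Q : Subgroup X))
    (hinv : ∀ n ∈ normalizer ((Q : Subgroup X) : Set X), ∀ r ∈ R, n * r * n⁻¹ ∈ R) :
    R = ⊥ ∨ R = (Q : Subgroup X) := by
  haveI : Fact (Nat.Prime 2) := ⟨Nat.prime_two⟩
  set N := normalizer ((Q : Subgroup X) : Set X)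
  set σ₀ : N →* MulAut (Q : Subgroup X) := normalizerMonoidHom (Q : Subgroup X)
  set A := σ₀.range
  have hA : ¬ 2 ∣ Nat.card A := by
    have hk : (Q : Subgroup X).subgroupOf N ≤ σ₀.ker := fun g hg => by
      rw [MonoidHom.mem_ker]
      ext a
      show (g : X) * a * (g : X)⁻¹ = a
      rw [hc g hg a a.2, mul_inv_cancel_right]
    intro h2
    rw [← index_ker] at h2
    have h := h2.trans (index_dvd_of_le hk)
    have h' : ((Q : Subgroup X).subgroupOf N).index ∣ (Q : Subgroup X).index :=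
      relIndex_dvd_index_of_le le_normalizer
    exact Q.not_dvd_index (h.trans h')
  obtain ⟨C, hMC, hsup, hC⟩ := Cfsg.Lib.Coprime.MaximalInvariant.exists_invariant_complement
    (V := (Q : Subgroup X)) (p := 2) (fun a b => Subtype.ext (hc a a.2 b b.2))
    (fun a => Subtype.ext (by push_cast; rw [pow_two]; exact he a a.2)) hA A.subtype
    (R.subgroupOf (Q : Subgroup X)) (by
      rintro ⟨_, n, rfl⟩ a ha
      exact mem_subgroupOf.2 (hinv n n.2 _ (mem_subgroupOf.1 ha)))
  set C' := C.map (Q : Subgroup X).subtype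
  have hC'le : C' ≤ (Q : Subgroup X) := map_subtype_le C
  have hC'inv : ∀ n ∈ N, ∀ r ∈ C', n * r * n⁻¹ ∈ C' := by
    rintro n hn _ ⟨a, ha, rfl⟩
    exact ⟨_, hC ⟨σ₀ ⟨n, hn⟩, ⟨n, hn⟩, rfl⟩ a ha, rfl⟩
  have hclosed : ∀ R' : Subgroup X, R' ≤ (Q : Subgroup X) → (∀ n ∈ N, ∀ r ∈ R', n * r * n⁻¹ ∈ R') →
      Cfsg.IsStronglyClosed R' (Q : Subgroup X) := fun R' hle hi => by
    refine ⟨hle, fun x hx g hg => ?_⟩
    obtain ⟨n, hn, e⟩ := Cfsg.Lib.Transfer.abelian_sylow_fusion Q ⟨⟨fun a b => Subtype.ext (hc a a.2 b b.2)⟩⟩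
      x g (hle hx) hg
    rw [e]; exact hi n hn x hx
  have hdis : R ⊓ C' = ⊥ := by
    rw [eq_bot_iff_forall]
    rintro _ ⟨haR, a, ha, rfl⟩
    have h : a ∈ R.subgroupOf (Q : Subgroup X) ⊓ C := ⟨mem_subgroupOf.2 haR, ha⟩
    rw [hMC, Subgroup.mem_bot] at h
    rw [h, map_one]
  have h := Cfsg.Lib.ProdFusion.product_fusion X Q R C' (hclosed R hR hinv) (hclosed C' hC'le hC'inv)
    (fun a ha b hb => hc a (hR ha) b (hC'le hb)) hdis
  obtain ⟨q, hq, hq1⟩ : ∃ q ∈ (Q : Subgroup X), q ≠ 1 := by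
    by_contra hh
    push Not at hh
    exact hQ ((eq_bot_iff_forall _).2 hh)
  rw [simple_pPrimeCore_eq_bot (orderOf_eq_prime (by rw [pow_two]; exact he q hq) hq1)] at h
  by_contra hne
  push Not at hne
  have htop : ∀ {B : Subgroup X}, B ≠ ⊥ → normalClosure (B : Set X) = ⊤ := fun {B} hB =>
    ((inferInstance : (normalClosure (B : Set X)).Normal).eq_bot_or_eq_top).resolve_left fun e =>
      hB (le_bot_iff.1 (e ▸ (le_normalClosure : B ≤ normalClosure (B : Set X))))
  have hC'ne : C' ≠ ⊥ := fun e => hne.2 (le_antisymm hR fun x hx => by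
    have : (⟨x, hx⟩ : (Q : Subgroup X)) ∈ R.subgroupOf (Q : Subgroup X) ⊔ C := hsup ▸ mem_top _
    rw [(map_eq_bot_iff_of_injective C (subtype_injective _)).1 e, sup_bot_eq] at this
    exact mem_subgroupOf.1 this)
  rw [htop hne.1, htop hC'ne] at h
  exact hna ⟨⟨fun a b => commutatorElement_eq_one_iff_mul_comm.1
    (Subgroup.mem_bot.1 (h (commutator_mem_commutator (mem_top a) (mem_top b))))⟩⟩

end Cfsg.Lib.CentralFour
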