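import Cfsg.Agent.CentralIndexFour.Frame
import Mathlib

/-!
The centre of a perfect group and its Sylow subgroups; perfect central extensions of `A₇` with centre of
odd order.
-/

set_option autoImplicit false
set_option linter.unusedSectionVars false
set_option linter.style.haveILetI false

namespace Cfsg.Lib.CentralFour

open Subgroup

universe u

variable {X : Type u} [Group X] [Finite X]

/-- Transfer: a central element of a Sylow subgroup lies in every normal subgroup of it with abelian
quotient. -/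
theorem central_mem_of_perfect {p : ℕ} [hp : Fact p.Prime] (hperf : commutator X = ⊤) (S : Sylow p X)
    (L : Subgroup (S : Subgroup X)) [L.Normal] (hL : ∀ a b : (S : Subgroup X), a * b * a⁻¹ * b⁻¹ ∈ L)
    {c : X} (hc : c ∈ center X) (hcS : c ∈ (S : Subgroup X)) : (⟨c, hcS⟩ : (S : Subgroup X)) ∈ L := by
  let _ : CommGroup ((S : Subgroup X) ⧸ L) :=
    { (inferInstance : Group ((S : Subgroup X) ⧸ L)) with
      mul_comm := fun a b => by
        obtain ⟨a, rfl⟩ := QuotientGroup.mk'_surjective L a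
        obtain ⟨b, rfl⟩ := QuotientGroup.mk'_surjective L b
        rw [← map_mul, ← map_mul, ← mul_inv_eq_one, ← map_inv, ← map_mul]
        refine (QuotientGroup.eq_one_iff _).2 ?_
        rw [show a * b * (b * a)⁻¹ = a * b * a⁻¹ * b⁻¹ by group]
        exact hL a b }
  set φ := QuotientGroup.mk' L
  have key : ∀ (k : ℕ) (g₀ : X), g₀⁻¹ * c ^ k * g₀ ∈ (S : Subgroup X) → g₀⁻¹ * c ^ k * g₀ = c ^ k := by
    intro k g₀ _
    rw [mul_assoc, ← mem_center_iff.mp (pow_mem hc k) g₀, inv_mul_cancel_left]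
  have h := MonoidHom.transfer_eq_pow φ c key
  have h1 : MonoidHom.transfer φ c = 1 := by
    have := Abelianization.commutator_subset_ker (MonoidHom.transfer φ)
    rw [hperf] at this
    exact this (mem_top c)
  rw [h1] at h
  have h2 : φ ⟨c, hcS⟩ ^ (S : Subgroup X).index = 1 := by
    rw [← map_pow]
    exact h.symm
  obtain ⟨k, hk⟩ := S.2 ⟨c, hcS⟩
  refine (QuotientGroup.eq_one_iff _).1 (show φ ⟨c, hcS⟩ = 1 from ?_)
  rw [← orderOf_eq_one_iff]
  refine Nat.eq_one_of_dvd_coprimes (Nat.Coprime.pow_left k ?_)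
    (orderOf_dvd_of_pow_eq_one (show φ ⟨c, hcS⟩ ^ p ^ k = 1 from ?_)) (orderOf_dvd_of_pow_eq_one h2)
  · exact hp.out.coprime_iff_not_dvd.mpr S.not_dvd_index
  · rw [← map_pow, hk, map_one]

/-- A central element of `p`-power order lies in every Sylow `p`-subgroup. -/
theorem central_pElement_mem {p : ℕ} [Fact p.Prime] {c : X} (hc : c ∈ center X) {k : ℕ} (hk : c ^ p ^ k = 1)
    (S : Sylow p X) : c ∈ (S : Subgroup X) := by
  obtain ⟨i, -, hi⟩ := (Nat.dvd_prime_pow Fact.out).1 (orderOf_dvd_of_pow_eq_one hk)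
  have h : IsPGroup p ((S : Subgroup X) ⊔ zpowers c : Subgroup X) :=
    IsPGroup.to_sup_of_normal_right' S.2 (IsPGroup.of_card (n := i) (by rw [Nat.card_zpowers, hi]))
      (le_normalizer_iff.2 fun g _ x hx => by
        obtain ⟨j, rfl⟩ := mem_zpowers_iff.1 hx
        rw [mem_center_iff.1 (zpow_mem hc j) g, mul_inv_cancel_right]
        exact zpow_mem (mem_zpowers c) j)
  exact (S.3 h le_sup_left) ▸ mem_sup_right (mem_zpowers c)

theorem eq_one_of_abelian_sylow {p : ℕ} [Fact p.Prime] (hperf : commutator X = ⊤) (S : Sylow p X)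
    (hS : ∀ a b : (S : Subgroup X), a * b = b * a) {c : X} (hc : c ∈ center X) (hcS : c ∈ (S : Subgroup X)) :
    c = 1 :=
  congrArg Subtype.val (Subgroup.mem_bot.1
    (central_mem_of_perfect hperf S ⊥ (fun a b => Subgroup.mem_bot.2 (by rw [hS a b]; group)) hc hcS))

/-- A `p`-group maps into `X / Z(X)` onto a group of order dividing the `p`-part of the order. -/
theorem card_map_sylow_dvd {p : ℕ} [hp : Fact p.Prime] (S : Sylow p X) {n m : ℕ}
    (hn : Nat.card (X ⧸ center X) = p ^ n * m) (hm : ¬ p ∣ m) :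
    Nat.card ((S : Subgroup X).map (QuotientGroup.mk' (center X))) ∣ p ^ n := by
  obtain ⟨i, hi⟩ := IsPGroup.iff_card.1 (IsPGroup.map S.2 (QuotientGroup.mk' (center X)))
  rw [hi]
  have h := card_subgroup_dvd_card ((S : Subgroup X).map (QuotientGroup.mk' (center X)))
  rw [hi, hn] at h
  exact (Nat.Coprime.pow_left i (hp.out.coprime_iff_not_dvd.2 hm)).dvd_of_dvd_mul_right h

theorem comm_of_cyclic_image {p : ℕ} [Fact p.Prime] (S : Sylow p X)
    (h : IsCyclic ((S : Subgroup X).map (QuotientGroup.mk' (center X)))) :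
    ∀ a b : (S : Subgroup X), a * b = b * a := by
  set π := (QuotientGroup.mk' (center X)).subgroupMap (S : Subgroup X)
  have hker : π.ker ≤ center (S : Subgroup X) := fun a ha => mem_center_iff.2 fun b => Subtype.ext <| by
    have h1 : ((a : X) : X ⧸ center X) = 1 := congrArg Subtype.val ha
    exact mem_center_iff.1 ((QuotientGroup.eq_one_iff _).1 h1) b
  letI := commGroupOfCyclicCenterQuotient π hker
  exact mul_comm

theorem center_dvd_three (hperf : commutator X = ⊤) (hodd : Odd (Nat.card (center X)))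
    (e : X ⧸ center X ≃* alternatingGroup (Fin 7)) :
    Nat.card (center X) = 1 ∨ Nat.card (center X) = 3 := by
  have hcard : Nat.card (X ⧸ center X) = 2520 := by
    rw [Nat.card_congr e.toEquiv, nat_card_alternatingGroup, Nat.card_fin]; rfl
  -- the centre is a 3-group
  have hq : ∀ q : ℕ, q.Prime → q ∣ Nat.card (center X) → q = 3 := by
    intro q hqp hqd
    by_contra hq3
    haveI := Fact.mk hqp
    obtain ⟨⟨c, hc⟩, hco⟩ := exists_prime_orderOf_dvd_card' q hqd
    rw [Subgroup.orderOf_mk] at hco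
    obtain ⟨S⟩ : Nonempty (Sylow q X) := inferInstance
    have hcS := central_pElement_mem hc (k := 1) (by rw [pow_one, ← hco, pow_orderOf_eq_one]) S
    have hd : Nat.card ((S : Subgroup X).map (QuotientGroup.mk' (center X))) ∣ q := by
      have hq2 : q ≠ 2 := fun h => hodd.not_two_dvd_nat (h ▸ hqd)
      by_cases h5 : q = 5
      · subst h5; exact (card_map_sylow_dvd S (n := 1) (m := 504) (by rw [hcard]; rfl) (by norm_num)).trans (by norm_num)
      by_cases h7 : q = 7
      · subst h7; exact (card_map_sylow_dvd S (n := 1) (m := 360) (by rw [hcard]; rfl) (by norm_num)).trans (by norm_num)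
      refine (card_map_sylow_dvd S (n := 0) (m := 2520) (by rw [hcard, pow_zero, one_mul]) fun h => ?_).trans (one_dvd _)
      have h1 : q ∣ 2 ^ 3 * (3 ^ 2 * (5 * 7)) := by norm_num; exact h
      rcases hqp.dvd_mul.1 h1 with h1 | h1
      · exact hq2 ((Nat.prime_dvd_prime_iff_eq hqp Nat.prime_two).1 (hqp.dvd_of_dvd_pow h1))
      rcases hqp.dvd_mul.1 h1 with h1 | h1
      · exact hq3 ((Nat.prime_dvd_prime_iff_eq hqp Nat.prime_three).1 (hqp.dvd_of_dvd_pow h1))
      rcases hqp.dvd_mul.1 h1 with h1 | h1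
      · exact h5 ((Nat.prime_dvd_prime_iff_eq hqp (by norm_num)).1 h1)
      · exact h7 ((Nat.prime_dvd_prime_iff_eq hqp (by norm_num)).1 h1)
    have hcyc : IsCyclic ((S : Subgroup X).map (QuotientGroup.mk' (center X))) := by
      rcases (Nat.dvd_prime hqp).1 hd with h | h
      · haveI := Finite.card_le_one_iff_subsingleton.1 h.le
        exact isCyclic_of_subsingleton
      · exact isCyclic_of_prime_card h
    have h1 := eq_one_of_abelian_sylow hperf S (comm_of_cyclic_image S hcyc) hc hcS
    rw [h1, orderOf_one] at hco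
    exact hqp.one_lt.ne hco
  haveI : Fact (Nat.Prime 3) := ⟨Nat.prime_three⟩
  obtain ⟨S⟩ : Nonempty (Sylow 3 X) := inferInstance
  have hZS : center X ≤ (S : Subgroup X) := fun c hc => by
    have hn := Nat.eq_prime_pow_of_unique_prime_dvd (p := 3) (n := orderOf c) (orderOf_pos c).ne'
      fun {d} hd hdd => hq d hd (hdd.trans (by
        rw [← Subgroup.orderOf_mk c hc]; exact orderOf_dvd_natCard _))
    exact central_pElement_mem hc (k := (orderOf c).primeFactorsList.length) (by rw [← hn, pow_orderOf_eq_one]) S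
  suffices h : Nat.card (center X) ∣ 3 from (Nat.dvd_prime Nat.prime_three).1 h
  set π := QuotientGroup.mk' (center X)
  set M := (S : Subgroup X).map π
  have hM9 : Nat.card M ∣ 3 ^ 2 := card_map_sylow_dvd S (m := 280) (by rw [hcard]; rfl) (by norm_num)
  by_cases hcyc : IsCyclic M
  · have hz : center X = ⊥ := (eq_bot_iff_forall _).2 fun c hc =>
      eq_one_of_abelian_sylow hperf S (comm_of_cyclic_image S hcyc) hc (hZS hc)
    rw [hz, card_bot]; exact one_dvd 3
  have hM : Nat.card M = 3 ^ 2 := by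
    obtain ⟨i, hi2, hi⟩ := (Nat.dvd_prime_pow Nat.prime_three).1 hM9
    interval_cases i
    · exact absurd (by haveI := Finite.card_le_one_iff_subsingleton.1 (le_of_eq (hi.trans (pow_zero 3))); exact isCyclic_of_subsingleton) hcyc
    · exact absurd (isCyclic_of_prime_card (hi.trans (pow_one 3))) hcyc
    · exact hi
  have hMc : ∀ a b : M, a * b = b * a := fun a b => by
    letI := IsPGroup.commGroupOfCardEqPrimeSq hM
    exact mul_comm a b
  have hord : ∀ a : M, a ^ 3 = 1 := by
    intro a
    obtain ⟨i, hi2, hi⟩ := (Nat.dvd_prime_pow Nat.prime_three).1 (hM ▸ orderOf_dvd_natCard a)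
    interval_cases i
    · rw [orderOf_eq_one_iff.1 (hi.trans (pow_zero 3)), one_pow]
    · rw [← hi.trans (pow_one 3), pow_orderOf_eq_one]
    · exact absurd (isCyclic_of_orderOf_eq_card a (hi.trans hM.symm)) hcyc
  -- two generators modulo the centre
  haveI : Nontrivial M := Finite.one_lt_card_iff_nontrivial.1 (by rw [hM]; norm_num)
  obtain ⟨a, ha⟩ := exists_ne (1 : M)
  obtain ⟨b, hb⟩ : ∃ b : M, b ∉ zpowers a := by
    by_contra h
    push Not at h
    exact hcyc ⟨a, fun x => mem_zpowers_iff.1 (h x)⟩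
  have htop : closure ({a, b} : Set M) = ⊤ := by
    refine eq_top_of_card_eq _ ?_
    obtain ⟨i, hi2, hi⟩ := (Nat.dvd_prime_pow Nat.prime_three).1 (hM ▸ card_subgroup_dvd_card (closure ({a, b} : Set M)))
    have ha3 : Nat.card (zpowers a) = 3 := by
      rw [Nat.card_zpowers]; exact orderOf_eq_prime (hord a) ha
    have hlt : zpowers a < closure ({a, b} : Set M) :=
      lt_of_le_of_ne (zpowers_le.2 (subset_closure (by simp))) fun h => hb (h ▸ subset_closure (by simp))
    have h3 : 3 < Nat.card (closure ({a, b} : Set M)) := by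
      rw [← ha3]
      exact lt_of_le_of_ne (card_le_of_le hlt.le) fun h => hlt.ne (eq_of_le_of_card_ge hlt.le h.ge)
    rw [hi, hM]
    interval_cases i <;> simp_all
  obtain ⟨x, hx, hxa⟩ := a.2
  obtain ⟨y, hy, hyb⟩ := b.2
  set w := x * y * x⁻¹ * y⁻¹ with hw
  have hwS : w ∈ (S : Subgroup X) := mul_mem (mul_mem (mul_mem hx hy) (inv_mem hx)) (inv_mem hy)
  have hwZ : w ∈ center X := by
    refine (QuotientGroup.eq_one_iff _).1 (show π w = 1 from ?_)
    rw [hw, map_mul, map_mul, map_mul, map_inv, map_inv, hxa, hyb]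
    have := congrArg Subtype.val (hMc a b)
    push_cast at this
    rw [this]; group
  have hx3 : x ^ 3 ∈ center X := by
    refine (QuotientGroup.eq_one_iff _).1 (show π (x ^ 3) = 1 from ?_)
    rw [map_pow, hxa]
    exact congrArg Subtype.val (hord a)
  have hw3 : w ^ 3 = 1 := by
    have hwc : ∀ g, g * w = w * g := mem_center_iff.1 hwZ
    have h1 : y * x * y⁻¹ = w⁻¹ * x := by rw [hw]; group
    have h2 : y * x ^ 3 * y⁻¹ = (w⁻¹) ^ 3 * x ^ 3 := by
      rw [show y * x ^ 3 * y⁻¹ = (y * x * y⁻¹) ^ 3 from (conj_pow).symm, h1,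
        (show Commute w⁻¹ x from (show Commute x w from hwc x).symm.inv_left).mul_pow]
    rw [mem_center_iff.1 hx3 y, mul_inv_cancel_right, inv_pow] at h2
    exact inv_eq_one.1 (mul_eq_right.1 h2.symm)
  set L : Subgroup (S : Subgroup X) := zpowers ⟨w, hwS⟩ with hLdef
  haveI : L.Normal := ⟨fun v hv g => by
    obtain ⟨j, rfl⟩ := mem_zpowers_iff.1 hv
    have e1 : g * ⟨w, hwS⟩ ^ j * g⁻¹ = (⟨w, hwS⟩ : (S : Subgroup X)) ^ j := Subtype.ext (by
      push_cast
      rw [mem_center_iff.1 (zpow_mem hwZ j) g, mul_inv_cancel_right])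
    rw [e1]; exact zpow_mem (mem_zpowers _) j⟩
  have hcomm : ∀ u v : (S : Subgroup X) ⧸ L, u * v = v * u := by
    set K : Subgroup (S : Subgroup X) := closure {⟨x, hx⟩, ⟨y, hy⟩} ⊔ (center X).subgroupOf (S : Subgroup X) with hK
    have hKt : K = ⊤ := by
      rw [eq_top_iff]
      intro g _
      set π' := π.subgroupMap (S : Subgroup X)
      have : π' g ∈ (closure {⟨x, hx⟩, ⟨y, hy⟩} : Subgroup (S : Subgroup X)).map π' := by
        rw [MonoidHom.map_closure, Set.image_pair, show π' ⟨x, hx⟩ = a from Subtype.ext hxa,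
          show π' ⟨y, hy⟩ = b from Subtype.ext hyb, htop]
        exact mem_top _
      obtain ⟨k, hk, hk'⟩ := mem_map.1 this
      rw [← mul_inv_cancel_left k g]
      refine mul_mem (mem_sup_left hk) (mem_sup_right (mem_subgroupOf.2 ?_))
      exact QuotientGroup.eq.1 (congrArg Subtype.val hk')
    set q := QuotientGroup.mk' L
    have hgen : K.map q ≤ centralizer (({q ⟨x, hx⟩, q ⟨y, hy⟩} : Set _) ) := by
      have hxy : q ⟨x, hx⟩ * q ⟨y, hy⟩ = q ⟨y, hy⟩ * q ⟨x, hx⟩ := by
        rw [← mul_inv_eq_one, ← map_mul, ← map_mul, ← map_inv, ← map_mul]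
        refine (QuotientGroup.eq_one_iff _).2 ?_
        have : (⟨x, hx⟩ * ⟨y, hy⟩ * (⟨y, hy⟩ * ⟨x, hx⟩)⁻¹ : (S : Subgroup X)) = ⟨w, hwS⟩ := Subtype.ext (by
          push_cast; rw [hw]; group)
        rw [this]; exact mem_zpowers _
      rw [map_le_iff_le_comap, hK, sup_le_iff, closure_le]
      refine ⟨?_, fun g hg => mem_centralizer_iff.2 ?_⟩
      · rintro g (rfl | rfl) <;> refine mem_centralizer_iff.2 ?_ <;> rintro h (rfl | rfl)
        exacts [rfl, hxy.symm, hxy, rfl]
      · intro h _
        obtain ⟨h, rfl⟩ := QuotientGroup.mk'_surjective L h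
        rw [← map_mul, ← map_mul]
        exact congrArg q (Subtype.ext (mem_center_iff.1 (mem_subgroupOf.1 hg) h))
    have hcen : K.map q ≤ centralizer ((K.map q : Subgroup _) : Set _) := by
      rw [map_le_iff_le_comap]
      conv_lhs => rw [hK]
      rw [sup_le_iff, closure_le]
      refine ⟨?_, fun g hg => mem_centralizer_iff.2 ?_⟩
      · rintro g hg
        refine mem_centralizer_iff.2 fun h hh => ?_
        refine (mem_centralizer_iff.1 (hgen hh) (q g) ?_).symm
        rcases hg with rfl | rfl <;> simp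
      · intro h _
        obtain ⟨h, rfl⟩ := QuotientGroup.mk'_surjective L h
        rw [← map_mul, ← map_mul]
        exact congrArg q (Subtype.ext (mem_center_iff.1 (mem_subgroupOf.1 hg) h))
    intro u v
    obtain ⟨u, rfl⟩ := QuotientGroup.mk'_surjective L u
    obtain ⟨v, rfl⟩ := QuotientGroup.mk'_surjective L v
    exact mem_centralizer_iff.1 (hcen ⟨v, hKt ▸ mem_top _, rfl⟩) _ ⟨u, hKt ▸ mem_top _, rfl⟩
  have hZL : center X ≤ L.map (S : Subgroup X).subtype := fun c hc => by
    refine ⟨⟨c, hZS hc⟩, central_mem_of_perfect hperf S L (fun u v => ?_) hc (hZS hc), rfl⟩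
    refine (QuotientGroup.eq_one_iff _).1 (show QuotientGroup.mk' L (u * v * u⁻¹ * v⁻¹) = 1 from ?_)
    simp only [map_mul, map_inv]
    rw [hcomm (QuotientGroup.mk' L u) (QuotientGroup.mk' L v)]
    group
  refine (card_dvd_of_le hZL).trans ?_
  rw [card_map_of_injective (subtype_injective _), hLdef, Nat.card_zpowers]
  exact orderOf_dvd_of_pow_eq_one (Subtype.ext hw3)

end Cfsg.Lib.CentralFour
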