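import Cfsg.Agent.Transfer.Fusion
import Cfsg.Prelude.Def_TwoFusion

/-!
Sylow 2-subgroups whose centre has index four: `P' = {1, z}`, the centralisers in `P` of the elements outside the
centre, and the elements of the normaliser of such a centraliser.
-/

set_option autoImplicit false
set_option linter.unusedSectionVars false
set_option linter.style.haveILetI false

namespace Cfsg.Lib.CentralFour

open Subgroup

universe u

variable {G : Type u} [Group G] [Finite G]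

/-- The centre of `P`, in `G`. -/
def Zc (P : Sylow 2 G) : Subgroup G := (P : Subgroup G) ⊓ centralizer ((P : Subgroup G) : Set G)

theorem mem_Zc {P : Sylow 2 G} {p : G} :
    p ∈ Zc P ↔ p ∈ (P : Subgroup G) ∧ ∀ q ∈ (P : Subgroup G), Commute q p := by
  rw [Zc, mem_inf, mem_centralizer_iff]
  exact Iff.rfl

/-- `P / Z(P)` is a four-group with representatives `1, x₀, y₀, x₀ y₀`, and `z = [x₀, y₀]`. -/
structure Ctx (P : Sylow 2 G) where
  z : G
  x₀ : G
  y₀ : G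
  x₀P : x₀ ∈ (P : Subgroup G)
  y₀P : y₀ ∈ (P : Subgroup G)
  comm : x₀ * y₀ * x₀⁻¹ * y₀⁻¹ = z
  z1 : z ≠ 1
  cases : ∀ p ∈ (P : Subgroup G), ∃ ζ ∈ Zc P, p = ζ ∨ p = x₀ * ζ ∨ p = y₀ * ζ ∨ p = x₀ * y₀ * ζ

theorem exists_ctx (P : Sylow 2 G) (hna : ¬ IsMulCommutative (P : Subgroup G))
    (hidx : (Subgroup.center (P : Subgroup G)).index = 4) : Nonempty (Ctx P) := by
  set Z := Subgroup.center (P : Subgroup G)
  obtain ⟨x, y, hxy⟩ : ∃ x y : (P : Subgroup G), x * y ≠ y * x := by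
    by_contra h
    push Not at h
    exact hna ⟨⟨h⟩⟩
  have hc : ∀ a : (P : Subgroup G), a ∈ Z → ∀ b, a * b = b * a := fun a ha b => (mem_center_iff.1 ha b).symm
  have hne : ∀ a b : (P : Subgroup G), a ∈ Z → a * b = b * a := fun a b ha => hc a ha b
  let f : Fin 4 → (P : Subgroup G) ⧸ Z := ![((1 : (P : Subgroup G)) : _ ⧸ Z), (x : _ ⧸ Z), (y : _ ⧸ Z), ((x * y : (P : Subgroup G)) : _ ⧸ Z)]
  have hinj : Function.Injective f := by
    have e : ∀ a b : (P : Subgroup G), (a : _ ⧸ Z) = (b : _ ⧸ Z) → ∀ c, Commute a c → Commute b c := by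
      intro a b h c hac
      have hz : a⁻¹ * b ∈ Z := QuotientGroup.eq.1 h
      have := hac.mul_left (hne _ c hz)
      rwa [mul_inv_cancel_left] at this
    have hn : ¬ Commute y x := fun h => hxy h.symm.eq
    have hxy1 : ¬ Commute (x * y) x := fun h => hn (by
      have := (Commute.refl x).inv_left.mul_left h
      rwa [inv_mul_cancel_left] at this)
    have hxy2 : ¬ Commute (x * y) y := fun h => hxy (by
      have := h.mul_left (Commute.refl y).inv_left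
      rwa [mul_inv_cancel_right] at this)
    intro i j h
    fin_cases i <;> fin_cases j <;> simp only [f, Fin.reduceFinMk, Matrix.cons_val] at h <;>
      first
      | rfl
      | (exact absurd (e _ _ h y (Commute.one_left y)) (fun h' => hxy h'.eq))
      | (exact absurd (e _ _ h.symm y (Commute.one_left y)) (fun h' => hxy h'.eq))
      | (exact absurd (e _ _ h x (Commute.one_left x)) hn)
      | (exact absurd (e _ _ h.symm x (Commute.one_left x)) hn)
      | (exact absurd (e _ _ h x (Commute.one_left x)) hxy1)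
      | (exact absurd (e _ _ h.symm x (Commute.one_left x)) hxy1)
      | (exact absurd (e _ _ h x (Commute.refl x)) hn)
      | (exact absurd (e _ _ h.symm x (Commute.refl x)) hn)
      | (exact absurd (e _ _ h x (Commute.refl x)) hxy1)
      | (exact absurd (e _ _ h.symm x (Commute.refl x)) hxy1)
      | (exact absurd (e _ _ h y (Commute.refl y)) hxy2)
      | (exact absurd (e _ _ h.symm y (Commute.refl y)) hxy2)
  have hcard : Nat.card ((P : Subgroup G) ⧸ Z) = 4 := by rw [← index_eq_card]; exact hidx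
  letI := Fintype.ofFinite ((P : Subgroup G) ⧸ Z)
  have hsurj : Function.Surjective f :=
    (Fintype.bijective_iff_injective_and_card f).2 ⟨hinj, by rw [← Nat.card_eq_fintype_card, ← Nat.card_eq_fintype_card, hcard]; simp⟩ |>.2
  refine ⟨⟨(x : G) * y * (x : G)⁻¹ * (y : G)⁻¹, x, y, x.2, y.2, rfl, fun h => hxy ?_, fun p hp => ?_⟩⟩
  · refine Subtype.ext ?_
    show (x : G) * y = y * x
    exact mul_inv_eq_iff_eq_mul.1 (mul_inv_eq_one.1 h)
  · obtain ⟨i, hi⟩ := hsurj ((⟨p, hp⟩ : (P : Subgroup G)) : _ ⧸ Z)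
    have hz : ∀ a : (P : Subgroup G), (a : _ ⧸ Z) = ((⟨p, hp⟩ : (P : Subgroup G)) : _ ⧸ Z) →
        (a : G)⁻¹ * p ∈ Zc P := fun a h => by
      have h' : a⁻¹ * ⟨p, hp⟩ ∈ Z := QuotientGroup.eq.1 h
      exact mem_Zc.2 ⟨mul_mem (inv_mem a.2) hp, fun q hq => congrArg Subtype.val (mem_center_iff.1 h' ⟨q, hq⟩)⟩
    fin_cases i <;> simp only [f, Fin.reduceFinMk, Matrix.cons_val] at hi
    · exact ⟨p, by simpa using hz 1 hi, Or.inl rfl⟩
    · exact ⟨_, hz x hi, Or.inr (Or.inl (by group))⟩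
    · exact ⟨_, hz y hi, Or.inr (Or.inr (Or.inl (by group)))⟩
    · exact ⟨_, hz (x * y) hi, Or.inr (Or.inr (Or.inr (by push_cast; group)))⟩

theorem inv_of_odd {x : G} (hx : Odd (orderOf x)) (m : ℕ) : x ∈ zpowers (x ^ 2 ^ m) := by
  obtain ⟨j, hj⟩ := exists_pow_eq_self_of_coprime (x := x) (Nat.Coprime.pow_left m (Nat.coprime_two_left.2 hx))
  exact mem_zpowers_iff.2 ⟨j, by rw [zpow_natCast]; exact hj⟩

theorem centralizer_le_normalizer' (Q : Subgroup G) : centralizer (Q : Set G) ≤ normalizer (Q : Set G) :=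
  fun g hg x => by
    constructor
    · intro hx
      rwa [← mem_centralizer_iff.1 hg x hx, mul_inv_cancel_right]
    · intro hx
      have h : g⁻¹ * (g * x * g⁻¹) * g = g * x * g⁻¹ := by
        rw [mul_assoc, mem_centralizer_iff.1 hg _ hx, inv_mul_cancel_left]
      rw [show g⁻¹ * (g * x * g⁻¹) * g = x by group] at h
      rwa [h]

/-- An element of odd order whose `2 ^ m`-th power lies in a subgroup lies in it. -/
theorem mem_of_pow_two {H : Subgroup G} {x : G} (hx : Odd (orderOf x)) (m : ℕ) (h : x ^ 2 ^ m ∈ H) : x ∈ H :=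
  zpowers_le.2 h (inv_of_odd hx m)

theorem conjOf_mem_normalizer {H : Subgroup G} {g x : G} (hg : g ∈ normalizer (H : Set G)) (hx : x ∈ H) :
    g * x * g⁻¹ ∈ H := (mem_normalizer_iff.1 hg x).1 hx

theorem mem_normalizer_of_le {H : Subgroup G} {g : G} (h : ∀ x ∈ H, g * x * g⁻¹ ∈ H) :
    g ∈ normalizer (H : Set G) := by
  have h1 : H.map (MulAut.conj g).toMonoidHom = H :=
    eq_of_le_of_card_ge (by rintro _ ⟨a, ha, rfl⟩; exact h a ha)
      (card_map_of_injective (MulAut.conj g).injective).ge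
  rw [mem_normalizer_iff]
  refine fun y => ⟨h y, fun hy => ?_⟩
  rw [← h1] at hy
  obtain ⟨a, ha, hay⟩ := hy
  rwa [← (MulAut.conj g).injective hay]

/-- A 2-subgroup of a subgroup containing `P` is conjugate in it into `P`. -/
theorem exists_conj_into {P : Sylow 2 G} {H : Subgroup G} (hP : (P : Subgroup G) ≤ H) {S : Subgroup G}
    (hS : IsPGroup 2 S) (hSH : S ≤ H) : ∃ h ∈ H, ∀ x ∈ S, h * x * h⁻¹ ∈ (P : Subgroup G) := by
  haveI : Fact (Nat.Prime 2) := ⟨Nat.prime_two⟩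
  obtain ⟨Q, hQ⟩ := (hS.of_equiv (subgroupOfEquivOfLe hSH).symm).exists_le_sylow
  obtain ⟨h, hh⟩ := MulAction.exists_smul_eq H Q (P.subtype hP)
  refine ⟨h, h.2, fun x hx => ?_⟩
  have h1 : MulAut.conj h (⟨x, hSH hx⟩ : H) ∈ (P.subtype hP : Subgroup H) := by
    rw [← hh, Sylow.coe_subgroup_smul]
    exact smul_mem_pointwise_smul _ (MulAut.conj h) _ (hQ (mem_subgroupOf.2 hx))
  simpa [mem_subgroupOf] using h1

theorem normalizer_centralizer (Q : Subgroup G) :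
    normalizer (Q : Set G) ≤ normalizer (centralizer (Q : Set G) : Set G) :=
  fun g hg => mem_normalizer_of_le fun x hx => mem_centralizer_iff.2 fun q hq => by
    have h := conjOf_mem_normalizer (inv_mem hg) hq
    rw [inv_inv] at h
    have h1 := mem_centralizer_iff.1 hx _ h
    calc q * (g * x * g⁻¹) = g * ((g⁻¹ * q * g) * x) * g⁻¹ := by group
      _ = g * (x * (g⁻¹ * q * g)) * g⁻¹ := by rw [h1]
      _ = g * x * g⁻¹ * q := by group

/-- An element of the normaliser of `P` is the product of an element of `P` and one of odd order in it. -/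
theorem normalizer_decomp (P : Sylow 2 G) {n : G} (hn : n ∈ normalizer ((P : Subgroup G) : Set G)) :
    ∃ p ∈ (P : Subgroup G), ∃ m ∈ normalizer ((P : Subgroup G) : Set G), Odd (orderOf m) ∧ n = p * m := by
  haveI : Fact (Nat.Prime 2) := ⟨Nat.prime_two⟩
  obtain ⟨e, r, hr, hn'⟩ := Nat.exists_eq_pow_mul_and_not_dvd (orderOf_pos n).ne' 2 (by norm_num)
  have hcop : Nat.Coprime (2 ^ e) r := Nat.Coprime.pow_left e ((Nat.prime_two.coprime_iff_not_dvd).2 hr)
  obtain ⟨a, b, hab⟩ : ∃ a b : ℤ, (1 : ℤ) = 2 ^ e * a + r * b := ⟨_, _, by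
    have := Nat.gcd_eq_gcd_ab (2 ^ e) r
    rw [hcop] at this
    exact_mod_cast this⟩
  have hp : IsPGroup 2 (zpowers (n ^ r)) := by
    refine IsPGroup.of_card (n := e) ?_
    have hr0 : r ≠ 0 := fun h => hr (by rw [h]; exact dvd_zero 2)
    rw [Nat.card_zpowers, orderOf_pow_of_dvd hr0 (hn' ▸ dvd_mul_left _ _), hn',
      Nat.mul_div_cancel _ (Nat.pos_of_ne_zero hr0)]
  obtain ⟨c, hc, hcP⟩ := exists_conj_into (P := P) le_normalizer hp (zpowers_le.2 (pow_mem hn r))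
  have hrP : n ^ r ∈ (P : Subgroup G) := (mem_normalizer_iff.1 hc _).2 (hcP _ (mem_zpowers _))
  refine ⟨(n ^ r) ^ b, zpow_mem hrP b, (n ^ 2 ^ e) ^ a, zpow_mem (pow_mem hn _) a, ?_, ?_⟩
  · have h1 : orderOf (n ^ 2 ^ e) = r := by
      rw [orderOf_pow_of_dvd (by positivity) (hn' ▸ dvd_mul_right _ _), hn', Nat.mul_div_cancel_left _ (by positivity)]
    exact (Nat.not_even_iff_odd.1 fun h => hr (even_iff_two_dvd.1 h)).of_dvd_nat
      (h1 ▸ orderOf_dvd_of_mem_zpowers (zpow_mem (mem_zpowers _) a))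
  · rw [← zpow_natCast, ← zpow_natCast n, ← zpow_mul, ← zpow_mul, ← zpow_add,
      show (r : ℤ) * b + ((2 ^ e : ℕ) : ℤ) * a = 1 by push_cast; linarith, zpow_one]

namespace Ctx

variable {P : Sylow 2 G} (c : Ctx P)
include c

theorem Zc_le : Zc P ≤ (P : Subgroup G) := inf_le_left

theorem central {ζ p : G} (hζ : ζ ∈ Zc P) (hp : p ∈ (P : Subgroup G)) : Commute p ζ := (mem_Zc.1 hζ).2 p hp

theorem not_comm : ¬ Commute c.x₀ c.y₀ := fun h => c.z1 (by
  rw [← c.comm, h.eq, mul_inv_cancel_right, mul_inv_cancel])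

theorem x₀_not : c.x₀ ∉ Zc P := fun h => c.not_comm (c.central h c.y₀P).symm

theorem y₀_not : c.y₀ ∉ Zc P := fun h => c.not_comm (c.central h c.x₀P)

theorem cent_dichotomy {p q : G} (hp : p ∈ (P : Subgroup G)) (hq : q ∈ (P : Subgroup G)) (hpZ : p ∉ Zc P)
    (h : Commute p q) : q ∈ Zc P ∨ p⁻¹ * q ∈ Zc P := by
  have strip : ∀ {a b ζ η : G}, a ∈ (P : Subgroup G) → b ∈ (P : Subgroup G) → ζ ∈ Zc P → η ∈ Zc P →
      Commute (a * ζ) (b * η) → Commute a b := by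
    intro a b ζ η ha hb hζ hη hab
    have h1 : Commute (a * ζ) b := by
      have := hab.mul_right (c.central (inv_mem hη) (mul_mem ha (c.Zc_le hζ)))
      rwa [mul_inv_cancel_right] at this
    have := h1.mul_left (c.central (inv_mem hζ) hb).symm
    rwa [mul_inv_cancel_right] at this
  have n3 : ¬ Commute c.x₀ (c.x₀ * c.y₀) := fun h => c.not_comm (by
    have := (Commute.refl c.x₀).inv_right.mul_right h
    rwa [inv_mul_cancel_left] at this)
  have n4 : ¬ Commute c.y₀ (c.x₀ * c.y₀) := fun h => c.not_comm (by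
    have := (h.mul_right (Commute.refl c.y₀).inv_right)
    rw [mul_inv_cancel_right] at this
    exact this.symm)
  have hxy : c.x₀ * c.y₀ ∈ (P : Subgroup G) := mul_mem c.x₀P c.y₀P
  have key : ∀ {a ζ η : G}, a ∈ (P : Subgroup G) → ζ ∈ Zc P → η ∈ Zc P → (a * ζ)⁻¹ * (a * η) ∈ Zc P := by
    intro a ζ η _ hζ hη
    rw [show (a * ζ)⁻¹ * (a * η) = ζ⁻¹ * η by group]
    exact mul_mem (inv_mem hζ) hη
  obtain ⟨ζ, hζ, rfl | rfl | rfl | rfl⟩ := c.cases p hp
  · exact absurd hζ hpZ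
  all_goals obtain ⟨η, hη, rfl | rfl | rfl | rfl⟩ := c.cases q hq
  · exact Or.inl hη
  · exact Or.inr (key c.x₀P hζ hη)
  · exact absurd (strip c.x₀P c.y₀P hζ hη h) c.not_comm
  · exact absurd (strip c.x₀P hxy hζ hη h) n3
  · exact Or.inl hη
  · exact absurd (strip c.y₀P c.x₀P hζ hη h).symm c.not_comm
  · exact Or.inr (key c.y₀P hζ hη)
  · exact absurd (strip c.y₀P hxy hζ hη h) n4
  · exact Or.inl hη
  · exact absurd (strip hxy c.x₀P hζ hη h).symm n3
  · exact absurd (strip hxy c.y₀P hζ hη h).symm n4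
  · exact Or.inr (key hxy hζ hη)

theorem sq_mem {p : G} (hp : p ∈ (P : Subgroup G)) : p * p ∈ Zc P := by
  by_cases h : p ∈ Zc P
  · exact mul_mem h h
  rcases c.cent_dichotomy hp (mul_mem hp hp) h ((Commute.refl p).mul_right (Commute.refl p)) with h' | h'
  · exact h'
  · rw [inv_mul_cancel_left] at h'; exact absurd h' h

theorem z_eq {p q : G} (hp : p ∈ (P : Subgroup G)) (hq : q ∈ (P : Subgroup G)) :
    (p * q * p⁻¹ * q⁻¹) ∈ Zc P := by
  rw [show p * q * p⁻¹ * q⁻¹ = (p * q * (p * q)) * (q⁻¹ * (p⁻¹ * p⁻¹) * q) * (q⁻¹ * q⁻¹) by group]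
  refine mul_mem (mul_mem (c.sq_mem (mul_mem hp hq)) ?_) (c.sq_mem (inv_mem hq))
  have h1 := c.sq_mem (inv_mem hp)
  rw [mul_assoc, ← (c.central h1 hq).eq, inv_mul_cancel_left]
  exact h1

theorem z_mem : c.z ∈ Zc P := c.comm ▸ c.z_eq c.x₀P c.y₀P

theorem z_P : c.z ∈ (P : Subgroup G) := c.Zc_le c.z_mem

theorem z_sq : c.z * c.z = 1 := by
  have h1 : c.x₀ * c.y₀ * c.x₀⁻¹ = c.z * c.y₀ := by rw [← c.comm]; group
  have h2 : c.x₀ * (c.x₀ * c.y₀ * c.x₀⁻¹) * c.x₀⁻¹ = c.y₀ := by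
    have h := (c.central (c.sq_mem c.x₀P) c.y₀P).eq
    calc c.x₀ * (c.x₀ * c.y₀ * c.x₀⁻¹) * c.x₀⁻¹ = (c.x₀ * c.x₀) * c.y₀ * (c.x₀ * c.x₀)⁻¹ := by group
      _ = c.y₀ := by rw [← h, mul_inv_cancel_right]
  rw [h1, show c.x₀ * (c.z * c.y₀) * c.x₀⁻¹ = (c.x₀ * c.z) * c.y₀ * c.x₀⁻¹ by group, (c.central c.z_mem c.x₀P).eq,
    show c.z * c.x₀ * c.y₀ * c.x₀⁻¹ = c.z * (c.x₀ * c.y₀ * c.x₀⁻¹) by group, h1, ← mul_assoc] at h2
  exact mul_eq_right.1 h2

theorem z_order : orderOf c.z = 2 := orderOf_eq_prime (by rw [pow_two]; exact c.z_sq) c.z1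

theorem z_inv : c.z⁻¹ = c.z := inv_eq_of_mul_eq_one_right c.z_sq

/-- Conjugation inside `P` moves an element by `1` or `z`. -/
theorem comm_cases {p q : G} (hp : p ∈ (P : Subgroup G)) (hq : q ∈ (P : Subgroup G)) :
    q * p * q⁻¹ = p ∨ q * p * q⁻¹ = p * c.z := by
  have h1 : ∀ a : G, a ∈ (P : Subgroup G) → ∀ ζ ∈ Zc P, (a * ζ) * p * (a * ζ)⁻¹ = a * p * a⁻¹ := fun a ha ζ hζ => by
    rw [show (a * ζ) * p * (a * ζ)⁻¹ = a * (ζ * p * ζ⁻¹) * a⁻¹ by group, ← (c.central hζ hp).eq,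
      mul_inv_cancel_right]
  have h2 : ∀ a : G, a ∈ (P : Subgroup G) → ∀ ζ ∈ Zc P, a * (p * ζ) * a⁻¹ = a * p * a⁻¹ * ζ := fun a ha ζ hζ => by
    rw [show a * (p * ζ) * a⁻¹ = a * p * (ζ * a⁻¹) by group, ← (c.central hζ (inv_mem ha)).eq]
    group
  have hzx : c.x₀ * c.y₀ * c.x₀⁻¹ = c.y₀ * c.z := by
    rw [(c.central c.z_mem c.y₀P).eq, ← c.comm]; group
  have hzy : c.y₀ * c.x₀ * c.y₀⁻¹ = c.x₀ * c.z := by
    have h : c.y₀ * c.x₀ * c.y₀⁻¹ = c.z⁻¹ * c.x₀ := by rw [← c.comm]; group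
    rw [h, c.z_inv, (c.central c.z_mem c.x₀P).eq]
  have hx : ∀ a, a = c.x₀ ∨ a = c.y₀ → (a * p * a⁻¹ = p ∨ a * p * a⁻¹ = p * c.z) := by
    rintro a ha
    have haP : a ∈ (P : Subgroup G) := by rcases ha with rfl | rfl; exacts [c.x₀P, c.y₀P]
    obtain ⟨ζ, hζ, e | e | e | e⟩ := c.cases p hp
    · exact Or.inl (by rw [(c.central (e ▸ hζ : p ∈ Zc P) haP).eq, mul_inv_cancel_right])
    · rcases ha with rfl | rfl
      · exact Or.inl (by rw [e, show c.x₀ * (c.x₀ * ζ) * c.x₀⁻¹ = c.x₀ * (c.x₀ * ζ * c.x₀⁻¹) by group,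
          (c.central hζ c.x₀P).eq, mul_inv_cancel_right, (c.central hζ c.x₀P).eq])
      · refine Or.inr ?_
        rw [e, show c.y₀ * (c.x₀ * ζ) * c.y₀⁻¹ = (c.y₀ * c.x₀ * c.y₀⁻¹) * (c.y₀ * ζ * c.y₀⁻¹) by group, hzy,
          (c.central hζ c.y₀P).eq, mul_inv_cancel_right, mul_assoc, (c.central hζ c.z_P).eq, mul_assoc]
    · rcases ha with rfl | rfl
      · refine Or.inr ?_
        rw [e, show c.x₀ * (c.y₀ * ζ) * c.x₀⁻¹ = (c.x₀ * c.y₀ * c.x₀⁻¹) * (c.x₀ * ζ * c.x₀⁻¹) by group, hzx,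
          (c.central hζ c.x₀P).eq, mul_inv_cancel_right, mul_assoc, (c.central hζ c.z_P).eq, mul_assoc]
      · exact Or.inl (by rw [e, show c.y₀ * (c.y₀ * ζ) * c.y₀⁻¹ = c.y₀ * (c.y₀ * ζ * c.y₀⁻¹) by group,
          (c.central hζ c.y₀P).eq, mul_inv_cancel_right, (c.central hζ c.y₀P).eq])
    · refine Or.inr ?_
      rcases ha with rfl | rfl
      · rw [e, show c.x₀ * (c.x₀ * c.y₀ * ζ) * c.x₀⁻¹ = c.x₀ * (c.x₀ * c.y₀ * c.x₀⁻¹) * (c.x₀ * ζ * c.x₀⁻¹) by group,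
          hzx, (c.central hζ c.x₀P).eq, mul_inv_cancel_right]
        simp only [mul_assoc]
        rw [(c.central hζ c.z_P).eq]
      · rw [e, show c.y₀ * (c.x₀ * c.y₀ * ζ) * c.y₀⁻¹ = (c.y₀ * c.x₀ * c.y₀⁻¹) * c.y₀ * (c.y₀ * ζ * c.y₀⁻¹) by group,
          hzy, (c.central hζ c.y₀P).eq, mul_inv_cancel_right]
        simp only [mul_assoc]
        rw [← mul_assoc c.z c.y₀, ← (c.central c.z_mem c.y₀P).eq, mul_assoc, (c.central hζ c.z_P).eq]
  obtain ⟨ζ, hζ, e | e | e | e⟩ := c.cases q hq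
  · exact Or.inl (by rw [← (c.central (e ▸ hζ : q ∈ Zc P) hp).eq, mul_inv_cancel_right])
  · rw [e, h1 _ c.x₀P ζ hζ]; exact hx _ (Or.inl rfl)
  · rw [e, h1 _ c.y₀P ζ hζ]; exact hx _ (Or.inr rfl)
  · rw [e, h1 _ (mul_mem c.x₀P c.y₀P) ζ hζ, show c.x₀ * c.y₀ * p * (c.x₀ * c.y₀)⁻¹ = c.x₀ * (c.y₀ * p * c.y₀⁻¹) * c.x₀⁻¹ by group]
    rcases hx c.y₀ (Or.inr rfl) with h | h <;> rw [h]
    · exact hx _ (Or.inl rfl)
    · rw [show c.x₀ * (p * c.z) * c.x₀⁻¹ = (c.x₀ * p * c.x₀⁻¹) * (c.x₀ * c.z * c.x₀⁻¹) by group,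
        (c.central c.z_mem c.x₀P).eq, mul_inv_cancel_right]
      rcases hx c.x₀ (Or.inl rfl) with h' | h' <;> rw [h']
      · exact Or.inr rfl
      · exact Or.inl (by rw [mul_assoc, c.z_sq, mul_one])

theorem exists_mover {p : G} (hp : p ∈ (P : Subgroup G)) (hpZ : p ∉ Zc P) :
    ∃ q ∈ (P : Subgroup G), q * p * q⁻¹ = p * c.z := by
  by_contra h
  push Not at h
  refine hpZ (mem_Zc.2 ⟨hp, fun q hq => ?_⟩)
  exact mul_inv_eq_iff_eq_mul.1 ((c.comm_cases hp hq).resolve_right (h q hq))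

theorem normalizer_fix_z {n : G} (hn : n ∈ normalizer ((P : Subgroup G) : Set G)) : n * c.z * n⁻¹ = c.z := by
  have hx := conjOf_mem_normalizer hn c.x₀P
  have hy := conjOf_mem_normalizer hn c.y₀P
  have h : n * c.z * n⁻¹ = (n * c.x₀ * n⁻¹) * (n * c.y₀ * n⁻¹) * (n * c.x₀ * n⁻¹)⁻¹ * (n * c.y₀ * n⁻¹)⁻¹ := by
    rw [← c.comm]; group
  rcases c.comm_cases hy hx with e | e
  · rw [e, mul_inv_cancel] at h
    exact absurd (conj_eq_one_iff.1 h) c.z1
  · rw [e, (c.central c.z_mem hy).eq, mul_inv_cancel_right] at h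
    exact h

theorem normalizer_Zc {n : G} (hn : n ∈ normalizer ((P : Subgroup G) : Set G)) {ζ : G} (hζ : ζ ∈ Zc P) :
    n * ζ * n⁻¹ ∈ Zc P := by
  refine mem_Zc.2 ⟨conjOf_mem_normalizer hn (c.Zc_le hζ), fun q hq => ?_⟩
  have hq' : n⁻¹ * q * n ∈ (P : Subgroup G) := by simpa using conjOf_mem_normalizer (inv_mem hn) hq
  have := (c.central hζ hq').map (MulAut.conj n).toMonoidHom
  simpa [mul_assoc] using this

/-- `C_P(p)`. -/
def CP (_ : Ctx P) (p : G) : Subgroup G := (P : Subgroup G) ⊓ centralizer {p}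

theorem mem_CP {p q : G} : q ∈ c.CP p ↔ q ∈ (P : Subgroup G) ∧ Commute q p := by
  rw [CP, mem_inf, mem_centralizer_singleton_iff]
  exact Iff.rfl

theorem Zc_le_CP {p : G} (hp : p ∈ (P : Subgroup G)) : Zc P ≤ c.CP p := fun _ hζ =>
  c.mem_CP.2 ⟨c.Zc_le hζ, (c.central hζ hp).symm⟩

theorem mem_CP_iff {p q : G} (hp : p ∈ (P : Subgroup G)) (hpZ : p ∉ Zc P) :
    q ∈ c.CP p ↔ q ∈ Zc P ∨ p⁻¹ * q ∈ Zc P := by
  refine ⟨fun h => c.cent_dichotomy hp (c.mem_CP.1 h).1 hpZ (c.mem_CP.1 h).2.symm, fun h => ?_⟩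
  rcases h with h | h
  · exact c.Zc_le_CP hp h
  · have e : q = p * (p⁻¹ * q) := by group
    rw [e]
    exact mul_mem (c.mem_CP.2 ⟨hp, Commute.refl p⟩) (c.Zc_le_CP hp h)

theorem CP_comm {p a b : G} (hp : p ∈ (P : Subgroup G)) (hpZ : p ∉ Zc P) (ha : a ∈ c.CP p) (hb : b ∈ c.CP p) :
    Commute a b := by
  rcases (c.mem_CP_iff hp hpZ).1 ha with h | h
  · exact (c.central h (c.mem_CP.1 hb).1).symm
  · have e : a = p * (p⁻¹ * a) := by group
    rw [e]
    exact (c.mem_CP.1 hb).2.symm.mul_left (c.central h (c.mem_CP.1 hb).1).symm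

theorem CP_normal {p q a : G} (hp : p ∈ (P : Subgroup G)) (hq : q ∈ (P : Subgroup G)) (ha : a ∈ c.CP p) :
    q * a * q⁻¹ ∈ c.CP p := by
  rcases c.comm_cases (c.mem_CP.1 ha).1 hq with e | e <;> rw [e]
  · exact ha
  · exact mul_mem ha (c.Zc_le_CP hp c.z_mem)

theorem le_normalizer_CP {p : G} (hp : p ∈ (P : Subgroup G)) :
    (P : Subgroup G) ≤ normalizer (c.CP p : Set G) :=
  fun _ hq => mem_normalizer_of_le fun _ ha => c.CP_normal hp hq ha

theorem card_CP_le {p p' : G} (hp : p ∈ (P : Subgroup G)) (hp' : p' ∈ (P : Subgroup G)) (hp'Z : p' ∉ Zc P) :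
    Nat.card (c.CP p') ≤ Nat.card (c.CP p) := by
  by_cases hpZ : p ∈ Zc P
  · exact Nat.le_of_dvd Nat.card_pos (card_dvd_of_le fun q hq =>
      c.mem_CP.2 ⟨(c.mem_CP.1 hq).1, c.central hpZ (c.mem_CP.1 hq).1⟩)
  classical
  refine Nat.card_le_card_of_injective
    (fun q : c.CP p' => if h : (q : G) ∈ Zc P then (⟨q, c.Zc_le_CP hp h⟩ : c.CP p)
      else ⟨p * (p'⁻¹ * q), (c.mem_CP_iff hp hpZ).2 (Or.inr (by
        rw [inv_mul_cancel_left]; exact ((c.mem_CP_iff hp' hp'Z).1 q.2).resolve_left h))⟩) fun a b hab => ?_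
  by_cases ha : (a : G) ∈ Zc P <;> by_cases hb : (b : G) ∈ Zc P
  · simp only [dif_pos ha, dif_pos hb, Subtype.mk.injEq] at hab
    exact Subtype.ext hab
  · simp only [dif_pos ha, dif_neg hb, Subtype.mk.injEq] at hab
    refine absurd ?_ hpZ
    have h := ((c.mem_CP_iff hp' hp'Z).1 b.2).resolve_left hb
    have e : p = (a : G) * (p'⁻¹ * b)⁻¹ := by rw [hab]; group
    rw [e]; exact mul_mem ha (inv_mem h)
  · simp only [dif_neg ha, dif_pos hb, Subtype.mk.injEq] at hab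
    refine absurd ?_ hpZ
    have h := ((c.mem_CP_iff hp' hp'Z).1 a.2).resolve_left ha
    have e : p = (b : G) * (p'⁻¹ * a)⁻¹ := by rw [← hab]; group
    rw [e]; exact mul_mem hb (inv_mem h)
  · simp only [dif_neg ha, dif_neg hb, Subtype.mk.injEq] at hab
    exact Subtype.ext (mul_left_cancel (mul_left_cancel hab))

theorem card_P {p : G} (hp : p ∈ (P : Subgroup G)) (hpZ : p ∉ Zc P) :
    2 * Nat.card (c.CP p) = Nat.card (P : Subgroup G) := by
  obtain ⟨q, hq, hqp⟩ := c.exists_mover hp hpZ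
  have hidx : ((c.CP p).subgroupOf (P : Subgroup G)).index = 2 := by
    refine index_eq_two_iff.2 ⟨⟨q, hq⟩, fun b => ?_⟩
    simp only [mem_subgroupOf, coe_mul, mem_CP, b.2, mul_mem b.2 hq, true_and]
    rcases c.comm_cases hp b.2 with e | e
    · refine Or.inr ⟨mul_inv_eq_iff_eq_mul.1 e, fun h => ?_⟩
      have h1 : Commute q p := by
        have := (show Commute (b : G) p from mul_inv_eq_iff_eq_mul.1 e).inv_left.mul_left h
        rwa [inv_mul_cancel_left] at this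
      rw [h1.eq, mul_inv_cancel_right] at hqp
      exact c.z1 (mul_eq_left.1 hqp.symm)
    · refine Or.inl ⟨mul_inv_eq_iff_eq_mul.1 ?_, fun h => ?_⟩
      · calc (b : G) * q * p * ((b : G) * q)⁻¹ = (b : G) * (q * p * q⁻¹) * (b : G)⁻¹ := by group
          _ = ((b : G) * p * (b : G)⁻¹) * ((b : G) * c.z * (b : G)⁻¹) := by rw [hqp]; group
          _ = p := by rw [e, (c.central c.z_mem b.2).eq, mul_inv_cancel_right, mul_assoc, c.z_sq, mul_one]
      · rw [h.eq, mul_inv_cancel_right] at e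
        exact c.z1 (mul_eq_left.1 e.symm)
  have hcc : Nat.card (c.CP p) = Nat.card ((c.CP p).subgroupOf (P : Subgroup G)) :=
    (Nat.card_congr (subgroupOfEquivOfLe (inf_le_left : c.CP p ≤ (P : Subgroup G))).toEquiv).symm
  have h2 := card_mul_index ((c.CP p).subgroupOf (P : Subgroup G))
  rw [hidx] at h2
  rw [hcc, mul_comm]
  exact h2

/-- Two commuting actions of order two on `C_P(p)` coincide. -/
theorem eq_action {p : G} (hp : p ∈ (P : Subgroup G)) (hpZ : p ∉ Zc P) {a b : G}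
    (ha : a ∈ normalizer (c.CP p : Set G)) (hb : b ∈ normalizer (c.CP p : Set G))
    (ha2 : ∀ x ∈ c.CP p, a * (a * x * a⁻¹) * a⁻¹ = x) (hb2 : ∀ x ∈ c.CP p, b * (b * x * b⁻¹) * b⁻¹ = x)
    (hab : ∀ x ∈ c.CP p, a * (b * x * b⁻¹) * a⁻¹ = b * (a * x * a⁻¹) * b⁻¹)
    (ha1 : ∃ x ∈ c.CP p, a * x * a⁻¹ ≠ x) (hb1 : ∃ x ∈ c.CP p, b * x * b⁻¹ ≠ x) :
    ∀ x ∈ c.CP p, a * x * a⁻¹ = b * x * b⁻¹ := by
  haveI : Fact (Nat.Prime 2) := ⟨Nat.prime_two⟩
  set Q := c.CP p
  by_contra hne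
  push Not at hne
  set N := normalizer (Q : Set G)
  set K := (centralizer (Q : Set G)).subgroupOf N
  haveI : K.Normal := normal_subgroupOf_of_le_normalizer (normalizer_centralizer Q)
  have hK : ∀ g : N, g ∈ K ↔ ∀ x ∈ Q, (g : G) * x * (g : G)⁻¹ = x := fun g => by
    rw [mem_subgroupOf, mem_centralizer_iff]
    exact forall₂_congr fun x _ => ⟨fun h => by rw [← h, mul_inv_cancel_right], fun h => (mul_inv_eq_iff_eq_mul.1 h).symm⟩
  set A : N ⧸ K := ((⟨a, ha⟩ : N) : N ⧸ K)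
  set B : N ⧸ K := ((⟨b, hb⟩ : N) : N ⧸ K)
  have hA2 : A * A = 1 := (QuotientGroup.eq_one_iff (N := K) ((⟨a, ha⟩ : N) * (⟨a, ha⟩ : N))).2 ((hK _).2 fun x hx => by
    show (a * a) * x * (a * a)⁻¹ = x
    rw [show (a * a) * x * (a * a)⁻¹ = a * (a * x * a⁻¹) * a⁻¹ by group]; exact ha2 x hx)
  have hB2 : B * B = 1 := (QuotientGroup.eq_one_iff (N := K) ((⟨b, hb⟩ : N) * (⟨b, hb⟩ : N))).2 ((hK _).2 fun x hx => by
    show (b * b) * x * (b * b)⁻¹ = x
    rw [show (b * b) * x * (b * b)⁻¹ = b * (b * x * b⁻¹) * b⁻¹ by group]; exact hb2 x hx)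
  have hA1 : A ≠ 1 := fun e => by
    obtain ⟨x, hx, h⟩ := ha1
    exact h ((hK _).1 ((QuotientGroup.eq_one_iff _).1 e) x hx)
  have hB1 : B ≠ 1 := fun e => by
    obtain ⟨x, hx, h⟩ := hb1
    exact h ((hK _).1 ((QuotientGroup.eq_one_iff _).1 e) x hx)
  have hAB : Commute A B := by
    show (((⟨a, ha⟩ : N) * ⟨b, hb⟩ : N) : N ⧸ K) = (((⟨b, hb⟩ : N) * ⟨a, ha⟩ : N) : N ⧸ K)
    refine QuotientGroup.eq.2 ((hK _).2 fun x hx => ?_)
    show ((a * b)⁻¹ * (b * a)) * x * ((a * b)⁻¹ * (b * a))⁻¹ = x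
    rw [show ((a * b)⁻¹ * (b * a)) * x * ((a * b)⁻¹ * (b * a))⁻¹ =
      (a * b)⁻¹ * (b * (a * x * a⁻¹) * b⁻¹) * (a * b) by group, ← hab x hx]
    group
  have hne' : A ≠ B := fun e => by
    obtain ⟨x, hx, h⟩ := hne
    have h1 := (hK _).1 (QuotientGroup.eq.1 e) x hx
    refine h ?_
    have h3 : a * (a⁻¹ * b * x * (a⁻¹ * b)⁻¹) * a⁻¹ = a * x * a⁻¹ :=
      congrArg (fun w => a * w * a⁻¹) (show a⁻¹ * b * x * (a⁻¹ * b)⁻¹ = x from h1)
    rw [← h3]
    group
  have hV : Nat.card (closure ({A, B} : Set (N ⧸ K))) % 4 = 0 := by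
    let H : Subgroup (N ⧸ K) :=
      { carrier := {1, A, B, A * B}
        one_mem' := by simp
        mul_mem' := by
          intro u v hu hv
          have e1 : A * (A * B) = B := by rw [← mul_assoc, hA2, one_mul]
          have e2 : A * B * A = B := by rw [hAB.eq, mul_assoc, hA2, mul_one]
          have e3 : B * (A * B) = A := by rw [hAB.eq, ← mul_assoc, hB2, one_mul]
          have e4 : A * B * B = A := by rw [mul_assoc, hB2, mul_one]
          have e5 : A * B * (A * B) = 1 := by rw [← mul_assoc, e2, hB2]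
          simp only [Set.mem_insert_iff, Set.mem_singleton_iff] at hu hv ⊢
          rcases hu with hu | hu | hu | hu <;> rcases hv with hv | hv | hv | hv <;> subst hu hv <;>
            simp [hA2, hB2, ← hAB.eq, e1, e2, e3, e4, e5]
        inv_mem' := by
          intro u hu
          simp only [Set.mem_insert_iff, Set.mem_singleton_iff] at hu ⊢
          rcases hu with rfl | rfl | rfl | rfl <;>
            simp [inv_eq_of_mul_eq_one_right hA2, inv_eq_of_mul_eq_one_right hB2, hAB.eq] }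
    have hle : closure ({A, B} : Set (N ⧸ K)) = H := by
      refine le_antisymm ((closure_le _).2 ?_) fun u hu => ?_
      · rintro u (rfl | rfl) <;> simp [H]
      · rcases hu with rfl | rfl | rfl | rfl
        exacts [one_mem _, subset_closure (by simp), subset_closure (by simp),
          mul_mem (subset_closure (by simp)) (subset_closure (by simp))]
    have hAB1 : A * B ≠ 1 := fun e => hne' (by rw [eq_inv_of_mul_eq_one_left e, inv_eq_of_mul_eq_one_right hB2])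
    have h4 : Nat.card H = 4 := by
      show Nat.card ({1, A, B, A * B} : Set (N ⧸ K)) = 4
      rw [Nat.card_coe_set_eq]
      exact Set.ncard_eq_four.2 ⟨1, A, B, A * B, hA1.symm, hB1.symm, hAB1.symm, hne',
        fun e => hB1 (mul_eq_left.1 e.symm), fun e => hA1 (mul_eq_right.1 e.symm), rfl⟩
    rw [hle, h4]
  have h4 : 4 ∣ Nat.card (N ⧸ K) := (Nat.dvd_of_mod_eq_zero hV).trans (card_subgroup_dvd_card _)
  have hQK : Nat.card Q ∣ Nat.card K := by
    rw [Nat.card_congr (subgroupOfEquivOfLe (centralizer_le_normalizer' Q)).toEquiv]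
    exact card_dvd_of_le fun x hx => mem_centralizer_iff.2 fun y hy => (c.CP_comm hp hpZ hy hx).eq
  have hN : Nat.card Q * 4 ∣ Nat.card G :=
    (Nat.mul_dvd_mul hQK h4).trans
      ((mul_comm _ _).trans (card_eq_card_quotient_mul_card_subgroup K).symm |>.dvd.trans (card_subgroup_dvd_card N))
  have hP := P.card_eq_multiplicity
  obtain ⟨i, hi⟩ := IsPGroup.iff_card.1 P.2
  rw [← c.card_P hp hpZ] at hi hP
  have h8 : 2 ^ (i + 1) ∣ Nat.card G := by
    rw [pow_succ, ← hi, show 2 * Nat.card Q * 2 = Nat.card Q * 4 by ring]; exact hN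
  have := (Nat.prime_two.pow_dvd_iff_le_factorization Nat.card_pos.ne').1 h8
  rw [hi] at hP
  have := Nat.pow_right_injective le_rfl hP
  omega

end Ctx

end Cfsg.Lib.CentralFour
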