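import Cfsg.Agent.CentralIndexFour.Turn

/-!
Fusion in a group with a Sylow 2-subgroup with centre of index four: every generator of the focal subgroup
lies in the product of the conjugates of `z` in `P` and of `[Z(P), N(P)]`.
-/

set_option autoImplicit false
set_option linter.unusedSectionVars false
set_option linter.style.haveILetI false

namespace Cfsg.Lib.CentralFour.Ctx

open Subgroup
open scoped commutatorElement

universe u

variable {G : Type u} [Group G] [Finite G] {P : Sylow 2 G} (c : Ctx P)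
include c

/-- `[Z(P), N(P)]`. -/
def E (_ : Ctx P) : Subgroup G :=
  closure {e | ∃ x ∈ Zc P, ∃ n ∈ normalizer ((P : Subgroup G) : Set G), e = x⁻¹ * (n * x * n⁻¹)}

/-- The subgroup generated by the conjugates of `z` in `P`. -/
def S₁ : Subgroup G := closure {x | x ∈ (P : Subgroup G) ∧ c.Cl x}

theorem cl_mem {x : G} (hx : x ∈ (P : Subgroup G)) (h : c.Cl x) : x ∈ c.S₁ := subset_closure ⟨hx, h⟩

theorem z_mem_S₁ : c.z ∈ c.S₁ := c.cl_mem c.z_P c.cl_self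

theorem S₁_le : c.S₁ ≤ (P : Subgroup G) := (closure_le _).2 fun _ hx => hx.1

theorem S₁_conj {n a : G} (hn : n ∈ normalizer ((P : Subgroup G) : Set G)) (ha : a ∈ c.S₁) :
    n * a * n⁻¹ ∈ c.S₁ := by
  have h : c.S₁ ≤ c.S₁.comap (MulAut.conj n).toMonoidHom :=
    (closure_le _).2 fun x hx => c.cl_mem (conjOf_mem_normalizer hn hx.1) (c.cl_conj hx.2 n)
  exact h ha

theorem E_le : c.E ≤ Zc P :=
  (closure_le _).2 fun _ ⟨_, hx, _, hn, e⟩ => e ▸ mul_mem (inv_mem hx) (c.normalizer_Zc hn hx)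

theorem E_gen {x n : G} (hx : x ∈ Zc P) (hn : n ∈ normalizer ((P : Subgroup G) : Set G)) :
    x⁻¹ * (n * x * n⁻¹) ∈ c.E := subset_closure ⟨x, hx, n, hn, rfl⟩

theorem E_conj {n a : G} (hn : n ∈ normalizer ((P : Subgroup G) : Set G)) (ha : a ∈ c.E) :
    n * a * n⁻¹ ∈ c.E := by
  have h : c.E ≤ c.E.comap (MulAut.conj n).toMonoidHom := (closure_le _).2 fun _ ⟨x, hx, m, hm, e⟩ => by
    subst e
    refine subset_closure ⟨n * x * n⁻¹, c.normalizer_Zc hn hx, n * m * n⁻¹,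
      mul_mem (mul_mem hn hm) (inv_mem hn), ?_⟩
    show n * (x⁻¹ * (m * x * m⁻¹)) * n⁻¹ = _
    group
  exact h ha

theorem E_conj_mem {n a : G} (hn : n ∈ normalizer ((P : Subgroup G) : Set G)) (ha : a ∈ c.E) :
    ∃ e ∈ c.E, n * a * n⁻¹ = e := ⟨_, c.E_conj hn ha, rfl⟩

theorem turn_fix_E {s b e : G} (hs : s ∈ (P : Subgroup G)) (hsZ : s ∉ Zc P) (hcl : c.Cl s)
    (hb : c.IsTurn s b) (he : e ∈ c.E) : b * e * b⁻¹ = e := by
  suffices h : c.E ≤ centralizer {b} by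
    rw [(mem_centralizer_singleton_iff.1 (h he)).symm, mul_inv_cancel_right]
  refine (closure_le _).2 ?_
  rintro _ ⟨x, hx, n, hn, rfl⟩
  obtain ⟨p, hp, m, hm, hmo, rfl⟩ := normalizer_decomp P hn
  have hxm := c.normalizer_Zc hm hx
  have e1 : p * m * x * (p * m)⁻¹ = m * x * m⁻¹ := by
    rw [show p * m * x * (p * m)⁻¹ = p * (m * x * m⁻¹) * p⁻¹ by group, (c.central hxm hp).eq, mul_inv_cancel_right]
  rw [e1]
  have hms := c.normalizer_odd_fix hm hmo hs hcl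
  have hmz := c.normalizer_fix_z hm
  have hb' : c.IsTurn s (m * b * m⁻¹) := by
    have key : ∀ a : G, m * b * m⁻¹ * (m * a * m⁻¹) * (m * b * m⁻¹)⁻¹ = m * (b * a * b⁻¹) * m⁻¹ := fun a => by group
    refine ⟨?_, ?_, fun a ha => ?_⟩
    · calc m * b * m⁻¹ * c.z * (m * b * m⁻¹)⁻¹ = m * b * m⁻¹ * (m * c.z * m⁻¹) * (m * b * m⁻¹)⁻¹ := by rw [hmz]
        _ = (m * c.z * m⁻¹) * (m * s * m⁻¹) := by rw [key, hb.z_to]; group
        _ = c.z * s := by rw [hmz, hms]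
    · calc m * b * m⁻¹ * s * (m * b * m⁻¹)⁻¹ = m * b * m⁻¹ * (m * s * m⁻¹) * (m * b * m⁻¹)⁻¹ := by rw [hms]
        _ = s := by rw [key, hb.s_fix, hms]
    · have ha' : m⁻¹ * a * m ∈ c.CP s := by
        refine c.mem_CP.2 ⟨by simpa using conjOf_mem_normalizer (inv_mem hm) (c.mem_CP.1 ha).1, ?_⟩
        have := (c.mem_CP.1 ha).2.map (MulAut.conj m⁻¹).toMonoidHom
        simp only [MulEquiv.coe_toMonoidHom, MulAut.conj_apply, inv_inv] at this
        rwa [show m⁻¹ * s * m = s by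
          calc m⁻¹ * s * m = m⁻¹ * (m * s * m⁻¹) * m := by rw [hms]
            _ = s := by group] at this
      have ea : a = m * (m⁻¹ * a * m) * m⁻¹ := by group
      rcases hb.act _ ha' with h | h
      · left
        rw [ea, key, h]
      · right
        rw [ea, key, h]
        calc m * (m⁻¹ * a * m * s) * m⁻¹ = a * (m * s * m⁻¹) := by group
          _ = m * (m⁻¹ * a * m) * m⁻¹ * s := by rw [hms]; group
  have hu := hb.unique c hb' hs hsZ hcl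
  have h1 : b * (m * x * m⁻¹) * b⁻¹ = m * (b * x * b⁻¹) * m⁻¹ := by
    rw [hu _ (c.Zc_le_CP hs hxm)]; group
  refine mem_centralizer_singleton_iff.2 (mul_inv_eq_iff_eq_mul.1 ?_).symm
  have h2 : b * (x⁻¹ * (m * x * m⁻¹)) * b⁻¹ = (b * x * b⁻¹)⁻¹ * (m * (b * x * b⁻¹) * m⁻¹) := by rw [← h1]; group
  rw [h2]
  rcases hb.act x (c.Zc_le_CP hs hx) with h | h <;> rw [h]
  calc (x * s)⁻¹ * (m * (x * s) * m⁻¹) = s⁻¹ * (x⁻¹ * (m * x * m⁻¹)) * (m * s * m⁻¹) := by group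
    _ = x⁻¹ * (m * x * m⁻¹) := by
      rw [hms, mul_assoc, ← (c.central (mul_mem (inv_mem hx) hxm) hs).eq, inv_mul_cancel_left]

theorem z_not_E {s : G} (hs : s ∈ (P : Subgroup G)) (hsZ : s ∉ Zc P) (hcl : c.Cl s) : c.z ∉ c.E := fun h => by
  obtain ⟨b, hb⟩ := c.exists_turn hs hsZ hcl
  have := c.turn_fix_E hs hsZ hcl hb h
  rw [hb.z_to] at this
  exact c.cl_ne_one hcl (mul_eq_left.1 this)

/-- An element of the centre fused to `y` outside it. -/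
theorem fusion_in_out {x y g : G} (hx : x ∈ Zc P) (hy : y ∈ (P : Subgroup G)) (hyZ : y ∉ Zc P)
    (h : g * x * g⁻¹ = y) :
    ∃ w n : G, c.Cl w ∧ w ∈ (P : Subgroup G) ∧ w ∉ Zc P ∧ n ∈ normalizer ((P : Subgroup G) : Set G) ∧
      y = w * (c.z * (n * x * n⁻¹)) ∧ ∀ b, c.IsTurn w b → b * y * b⁻¹ = y := by
  obtain ⟨g', r, hg', hr, hrZ, h1, h2⟩ := c.exists_pull hx hy hyZ h
  set w := g' * c.z * g'⁻¹ with hw
  have hwQ : w ∈ c.CP y := h1 _ (c.Zc_le_CP hr c.z_mem)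
  have hwP : w ∈ (P : Subgroup G) := (c.mem_CP.1 hwQ).1
  have hclw : c.Cl w := ⟨g', rfl⟩
  obtain ⟨q, hq, hqr⟩ := c.exists_mover hr hrZ
  set a := g' * q * g'⁻¹ with ha
  have hay : a * y * a⁻¹ = y := by
    rw [ha, ← hg', show g' * q * g'⁻¹ * (g' * x * g'⁻¹) * (g' * q * g'⁻¹)⁻¹ = g' * (q * x * q⁻¹) * g'⁻¹ by group,
      (c.central hx hq).eq, mul_inv_cancel_right]
  have haw : a * w * a⁻¹ = w := by
    rw [ha, hw, show g' * q * g'⁻¹ * (g' * c.z * g'⁻¹) * (g' * q * g'⁻¹)⁻¹ = g' * (q * c.z * q⁻¹) * g'⁻¹ by group,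
      (c.central c.z_mem hq).eq, mul_inv_cancel_right]
  have hact : ∀ u ∈ c.CP y, a * u * a⁻¹ = u ∨ a * u * a⁻¹ = u * w := c.pull_action h1 h2 hq
  have hmv : ∃ u ∈ c.CP y, a * u * a⁻¹ ≠ u := by
    refine ⟨g' * r * g'⁻¹, h1 _ (c.mem_CP.2 ⟨hr, Commute.refl r⟩), fun e => ?_⟩
    rw [ha, show g' * q * g'⁻¹ * (g' * r * g'⁻¹) * (g' * q * g'⁻¹)⁻¹ = g' * (q * r * q⁻¹) * g'⁻¹ by group, hqr] at e
    exact c.z1 (mul_eq_left.1 (mul_left_cancel (mul_right_cancel e)))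
  have hwZ : w ∉ Zc P := by
    intro hwZ
    have e := c.cl_Zc hclw hwZ
    obtain ⟨q', hq', hq'y⟩ := c.exists_mover hy hyZ
    have hq'' : ∀ u ∈ c.CP y, q' * u * q'⁻¹ = u ∨ q' * u * q'⁻¹ = u * w := fun u hu => by
      rw [e]; exact c.comm_cases (c.mem_CP.1 hu).1 hq'
    have := c.eq_action' hy hyZ (c.cl_sq hclw) hwQ haw
      (by rw [e, (c.central c.z_mem hq').eq, mul_inv_cancel_right]) hact hq'' hmv
      ⟨y, c.mem_CP.2 ⟨hy, Commute.refl y⟩, fun h' => c.z1 (mul_eq_left.1 (hq'y.symm.trans h'))⟩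
      y (c.mem_CP.2 ⟨hy, Commute.refl y⟩)
    rw [hay, hq'y] at this
    exact c.z1 (mul_eq_left.1 this.symm)
  have hd : w⁻¹ * y ∈ Zc P :=
    ((c.mem_CP_iff hwP hwZ).1 (c.mem_CP.2 ⟨hy, (c.mem_CP.1 hwQ).2.symm⟩)).resolve_left hyZ
  have ed : w⁻¹ * y = g' * (c.z * x) * g'⁻¹ := by
    calc w⁻¹ * y = (g' * c.z * g'⁻¹)⁻¹ * (g' * x * g'⁻¹) := by rw [hw, hg']
      _ = g' * (c.z⁻¹ * x) * g'⁻¹ := by group
      _ = _ := by rw [c.z_inv]
  obtain ⟨n, hn, e⟩ := c.fusion_Zc (mul_mem c.z_mem hx) (ed ▸ hd)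
  refine ⟨w, n, hclw, hwP, hwZ, hn, ?_, fun b hb => ?_⟩
  · calc y = w * (w⁻¹ * y) := (mul_inv_cancel_left w y).symm
      _ = w * ((n * c.z * n⁻¹) * (n * x * n⁻¹)) := by rw [ed, e]; group
      _ = _ := by rw [c.normalizer_fix_z hn]
  · have hCP := c.CP_eq hy hyZ hwQ hwZ
    have := c.eq_action' hwP hwZ (c.cl_sq hclw) (c.mem_CP.2 ⟨hwP, Commute.refl w⟩) hb.s_fix haw hb.act
      (hCP ▸ hact) (hb.moves c hwP hclw) (hCP ▸ hmv) y (hCP ▸ c.mem_CP.2 ⟨hy, Commute.refl y⟩)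
    rw [this, hay]

/-- `x` is conjugate to an element of `Z(P)`. -/
def ConjZ (_ : Ctx P) (x : G) : Prop := ∃ g : G, g * x * g⁻¹ ∈ Zc P

theorem card_two_le {y : G} (hy : y ∈ (P : Subgroup G)) (hnc : ¬ c.ConjZ y) {T : Subgroup G}
    (hT : IsPGroup 2 T) (hTy : T ≤ centralizer {y}) : Nat.card T ≤ Nat.card (c.CP y) := by
  have hyZ : y ∉ Zc P := fun h => hnc ⟨1, by simpa using h⟩
  set T' := T ⊔ zpowers y
  have hTn : T ≤ normalizer (zpowers y : Set G) := le_normalizer_iff.2 fun t ht k hk => by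
    obtain ⟨i, rfl⟩ := mem_zpowers_iff.1 hk
    have : Commute t (y ^ i) := (show Commute t y from mem_centralizer_singleton_iff.1 (hTy ht)).zpow_right i
    rw [this.eq, mul_inv_cancel_right]
    exact zpow_mem (mem_zpowers y) i
  have h2 : IsPGroup 2 T' :=
    hT.to_sup_of_normal_right' (P.2.to_le (zpowers_le.2 hy)) hTn
  obtain ⟨a, -, ha⟩ := exists_conj_into (P := P) (H := ⊤) le_top h2 le_top
  have hay : a * y * a⁻¹ ∈ (P : Subgroup G) := ha y (mem_sup_right (mem_zpowers y))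
  have hayZ : a * y * a⁻¹ ∉ Zc P := fun h => hnc ⟨a, h⟩
  have hc : Nat.card (T.map (MulAut.conj a).toMonoidHom) = Nat.card T :=
    card_map_of_injective (MulAut.conj a).injective
  rw [← hc, c.card_CP_eq hy hyZ hay hayZ]
  refine card_le_of_le ?_
  rintro _ ⟨t, ht, rfl⟩
  exact c.mem_CP.2 ⟨ha t (mem_sup_left ht),
    (show Commute t y from mem_centralizer_singleton_iff.1 (hTy ht)).map (MulAut.conj a).toMonoidHom⟩

/-- Fusion of elements not conjugate into the centre. -/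
theorem fusion_out {x y g : G} (hx : x ∈ (P : Subgroup G)) (hy : y ∈ (P : Subgroup G))
    (hnc : ¬ c.ConjZ y) (h : g * x * g⁻¹ = y) :
    ∃ n h : G, n ∈ normalizer ((P : Subgroup G) : Set G) ∧ n * x * n⁻¹ ∈ c.CP y ∧ n * x * n⁻¹ ∉ Zc P ∧
      h ∈ normalizer (c.CP y : Set G) ∧ y = h * (n * x * n⁻¹) * h⁻¹ := by
  haveI : Fact (Nat.Prime 2) := ⟨Nat.prime_two⟩
  have hyZ : y ∉ Zc P := fun h => hnc ⟨1, by simpa using h⟩
  have hxZ : x ∉ Zc P := fun h' => hnc ⟨g⁻¹, by rw [← h]; simpa [mul_assoc] using h'⟩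
  set C := centralizer ({y} : Set G)
  have hCPy : c.CP y ≤ C := inf_le_right
  set R := (c.CP x).map (MulAut.conj g).toMonoidHom
  have hR : R ≤ C := by
    rintro _ ⟨a, ha, rfl⟩
    refine mem_centralizer_singleton_iff.2 ?_
    rw [← h]
    exact ((c.mem_CP.1 ha).2.map (MulAut.conj g).toMonoidHom).eq
  have h2 : ∀ {p : G}, IsPGroup 2 (c.CP p) := fun {p} => P.2.to_le inf_le_left
  obtain ⟨Q, hQ⟩ := (h2.of_equiv (subgroupOfEquivOfLe hCPy).symm).exists_le_sylow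
  obtain ⟨Q', hQ'⟩ := ((h2.map _).of_equiv (subgroupOfEquivOfLe hR).symm).exists_le_sylow
  obtain ⟨k, hk⟩ := MulAction.exists_smul_eq C Q' Q
  have hQeq : (Q : Subgroup C).map C.subtype = c.CP y := by
    refine (eq_of_le_of_card_ge (fun a ha => mem_map.2 ⟨⟨a, hCPy ha⟩, hQ (mem_subgroupOf.2 ha), rfl⟩) ?_).symm
    exact c.card_two_le hy hnc (IsPGroup.map Q.2 _) (map_subtype_le _)
  set g' := (k : G) * g with hg'
  have hk' : (k : G) * y = y * k := mem_centralizer_singleton_iff.1 k.2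
  have hg'x : g' * x * g'⁻¹ = y := by
    rw [hg', show (k : G) * g * x * ((k : G) * g)⁻¹ = k * (g * x * g⁻¹) * (k : G)⁻¹ by group, h, hk',
      mul_inv_cancel_right]
  have hmap : ∀ a ∈ c.CP x, g' * a * g'⁻¹ ∈ c.CP y := fun a ha => by
    rw [← hQeq]
    have hm : g * a * g⁻¹ ∈ R := ⟨a, ha, rfl⟩
    refine ⟨MulAut.conj k (⟨g * a * g⁻¹, hR hm⟩ : C), ?_, ?_⟩
    · rw [← hk, Sylow.coe_subgroup_smul]
      exact smul_mem_pointwise_smul _ (MulAut.conj k) _ (hQ' (mem_subgroupOf.2 hm))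
    · show (k : G) * (g * a * g⁻¹) * (k : G)⁻¹ = g' * a * g'⁻¹
      rw [hg']; group
  have himg : (fun a => g' * a * g'⁻¹) '' (c.CP x : Set G) = (c.CP y : Set G) := by
    have h1 : (c.CP x).map (MulAut.conj g').toMonoidHom = c.CP y := by
      refine eq_of_le_of_card_ge (by rintro _ ⟨a, ha, rfl⟩; exact hmap a ha) ?_
      rw [card_map_of_injective (MulAut.conj g').injective, c.card_CP_eq hx hxZ hy hyZ]
    rw [← h1]; rfl
  obtain ⟨n, hn, hn'⟩ := Transfer.burnside_fusion_set P _ _ (c.le_normalizer_CP hx) (c.le_normalizer_CP hy) g' himg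
  have hnx : n * x * n⁻¹ ∈ c.CP y := by
    rw [← SetLike.mem_coe, ← hn']; exact ⟨x, c.mem_CP.2 ⟨hx, Commute.refl x⟩, rfl⟩
  refine ⟨n, g' * n⁻¹, hn, hnx, fun h' => hxZ ?_, mem_normalizer_of_le fun u hu => ?_, ?_⟩
  · have := c.normalizer_Zc (inv_mem hn) h'
    rwa [show n⁻¹ * (n * x * n⁻¹) * n⁻¹⁻¹ = x by group] at this
  · rw [← SetLike.mem_coe, ← hn'] at hu
    obtain ⟨a, ha, rfl⟩ := hu
    have := hmap a ha
    rwa [show g' * n⁻¹ * (n * a * n⁻¹) * (g' * n⁻¹)⁻¹ = g' * a * g'⁻¹ by group]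
  · rw [← hg'x]; group

/-- An element of the normaliser of a centraliser fixing `z` acts on it as an element of `N(P)`. -/
theorem fixz {q h : G} (hq : q ∈ (P : Subgroup G)) (hqZ : q ∉ Zc P)
    (hh : h ∈ normalizer (c.CP q : Set G)) (hz : h * c.z * h⁻¹ = c.z) :
    ∃ n ∈ normalizer ((P : Subgroup G) : Set G), ∀ a ∈ c.CP q, h * a * h⁻¹ = n * a * n⁻¹ := by
  set Q := c.CP q
  set C := centralizer (Q : Set G)
  set H := C ⊔ (P : Subgroup G)
  obtain ⟨a, ha, haq⟩ := c.exists_mover hq hqZ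
  have hQC : Q ≤ C := fun u hu => mem_centralizer_iff.2 fun v hv => (c.CP_comm hq hqZ hv hu).eq
  have hqQ : q ∈ Q := c.mem_CP.2 ⟨hq, Commute.refl q⟩
  set a' := h * a * h⁻¹ with ha'
  have hback : ∀ u ∈ Q, h⁻¹ * u * h ∈ Q := fun u hu => by
    simpa using conjOf_mem_normalizer (inv_mem hh) hu
  have hz' : a' * c.z * a'⁻¹ = c.z := by
    have e : h⁻¹ * c.z * h = c.z := by
      calc h⁻¹ * c.z * h = h⁻¹ * (h * c.z * h⁻¹) * h := by rw [hz]
        _ = c.z := by group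
    calc a' * c.z * a'⁻¹ = h * (a * (h⁻¹ * c.z * h) * a⁻¹) * h⁻¹ := by rw [ha']; group
      _ = _ := by rw [e, (c.central c.z_mem ha).eq, mul_inv_cancel_right, hz]
  have act' : ∀ u ∈ Q, a' * u * a'⁻¹ = u ∨ a' * u * a'⁻¹ = u * c.z := fun u hu => by
    have e : a' * u * a'⁻¹ = h * (a * (h⁻¹ * u * h) * a⁻¹) * h⁻¹ := by rw [ha']; group
    rw [e]
    rcases c.comm_cases (c.mem_CP.1 (hback u hu)).1 ha with e' | e' <;> rw [e']
    · exact Or.inl (by group)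
    · refine Or.inr ?_
      calc h * (h⁻¹ * u * h * c.z) * h⁻¹ = u * (h * c.z * h⁻¹) := by group
        _ = _ := by rw [hz]
  have hsame := c.eq_action' hq hqZ c.z_sq (c.Zc_le_CP hq c.z_mem)
    (by rw [(c.central c.z_mem ha).eq, mul_inv_cancel_right]) hz'
    (fun u hu => c.comm_cases (c.mem_CP.1 hu).1 ha) act'
    ⟨q, hqQ, fun e => c.z1 (mul_eq_left.1 (haq.symm.trans e))⟩
    ⟨h * q * h⁻¹, conjOf_mem_normalizer hh hqQ, fun e => by
      rw [ha', show h * a * h⁻¹ * (h * q * h⁻¹) * (h * a * h⁻¹)⁻¹ = h * (a * q * a⁻¹) * h⁻¹ by group, haq] at e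
      exact c.z1 (mul_eq_left.1 (mul_left_cancel (mul_right_cancel e)))⟩
  have ha'H : a' ∈ H := by
    have h1 : a⁻¹ * a' ∈ C := mem_centralizer_iff.2 fun u hu => by
      have e : a⁻¹ * a' * u * (a⁻¹ * a')⁻¹ = u := by
        calc a⁻¹ * a' * u * (a⁻¹ * a')⁻¹ = a⁻¹ * (a' * u * a'⁻¹) * a := by group
          _ = u := by rw [← hsame u hu]; group
      exact (mul_inv_eq_iff_eq_mul.1 e).symm
    rw [← mul_inv_cancel_left a a']
    exact mul_mem (mem_sup_right ha) (mem_sup_left h1)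
  have hPH : ∀ p ∈ (P : Subgroup G), h * p * h⁻¹ ∈ H := fun p hp => by
    have hQH : ∀ u ∈ Q, h * u * h⁻¹ ∈ H := fun u hu => mem_sup_left (hQC (conjOf_mem_normalizer hh hu))
    by_cases hpq : Commute q p
    · exact hQH p (c.mem_CP.2 ⟨hp, hpq.symm⟩)
    · have hp' : p * q * p⁻¹ = q * c.z :=
        (c.comm_cases hq hp).resolve_left fun e => hpq (mul_inv_eq_iff_eq_mul.1 e).symm
      have hu : a⁻¹ * p ∈ Q := c.mem_CP.2 ⟨mul_mem (inv_mem ha) hp, mul_inv_eq_iff_eq_mul.1 (by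
        calc a⁻¹ * p * q * (a⁻¹ * p)⁻¹ = a⁻¹ * (p * q * p⁻¹) * a := by group
          _ = q := by rw [hp', ← haq]; group)⟩
      rw [show h * p * h⁻¹ = a' * (h * (a⁻¹ * p) * h⁻¹) by rw [ha']; group]
      exact mul_mem ha'H (hQH _ hu)
  obtain ⟨k, hk, hkP⟩ := exists_conj_into (P := P) (H := H) le_sup_right
    (IsPGroup.map P.2 (MulAut.conj h).toMonoidHom) (by rintro _ ⟨p, hp, rfl⟩; exact hPH p hp)
  have hn0 : k * h ∈ normalizer ((P : Subgroup G) : Set G) := mem_normalizer_of_le fun p hp => by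
    have := hkP (h * p * h⁻¹) ⟨p, hp, rfl⟩
    rwa [show k * h * p * (k * h)⁻¹ = k * (h * p * h⁻¹) * k⁻¹ by group]
  have hPC : (P : Subgroup G) ≤ normalizer (C : Set G) :=
    (c.le_normalizer_CP hq).trans (normalizer_centralizer Q)
  have hki : k⁻¹ ∈ H := inv_mem hk
  rw [← SetLike.mem_coe, coe_mul_of_right_le_normalizer_left C (P : Subgroup G) hPC] at hki
  obtain ⟨c', hc', p', hp', e⟩ := hki
  refine ⟨p' * (k * h), mul_mem (le_normalizer hp') hn0, fun u hu => ?_⟩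
  have eh : h = c' * (p' * (k * h)) := by rw [← mul_assoc, show c' * p' = k⁻¹ from e, inv_mul_cancel_left]
  have huQ := conjOf_mem_normalizer hh hu
  have ec : c'⁻¹ * (h * u * h⁻¹) * c' = h * u * h⁻¹ := by
    rw [mul_assoc, mem_centralizer_iff.1 hc' _ huQ, inv_mul_cancel_left]
  conv_lhs => rw [← ec]
  conv_lhs => rw [eh]
  group

theorem focal_gen_normalizer {s : G} (hs : s ∈ (P : Subgroup G)) (hsZ : s ∉ Zc P) (hcl : c.Cl s) {x n : G}
    (hx : x ∈ (P : Subgroup G)) (hn : n ∈ normalizer ((P : Subgroup G) : Set G)) :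
    x⁻¹ * (n * x * n⁻¹) ∈ c.S₁ ⊔ c.E := by
  obtain ⟨p, hp, m, hm, hmo, rfl⟩ := normalizer_decomp P hn
  suffices hmE : x⁻¹ * (m * x * m⁻¹) ∈ c.E by
    rw [show p * m * x * (p * m)⁻¹ = p * (m * x * m⁻¹) * p⁻¹ by group]
    rcases c.comm_cases (conjOf_mem_normalizer hm hx) hp with e | e <;> rw [e]
    · exact mem_sup_right hmE
    · rw [← mul_assoc]; exact mul_mem (mem_sup_right hmE) (mem_sup_left c.z_mem_S₁)
  have hms := c.normalizer_odd_fix hm hmo hs hcl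
  by_cases hxs : Commute s x
  · rcases c.cent_dichotomy hs hx hsZ hxs with h | h
    · exact c.E_gen h hm
    · have e : x⁻¹ * (m * x * m⁻¹) = (s⁻¹ * x)⁻¹ * (m * (s⁻¹ * x) * m⁻¹) := by
        calc x⁻¹ * (m * x * m⁻¹) = (s⁻¹ * x)⁻¹ * s⁻¹ * (m * s * m⁻¹) * (m * (s⁻¹ * x) * m⁻¹) := by group
          _ = _ := by rw [hms, inv_mul_cancel_right]
      rw [e]
      exact c.E_gen h hm
  set e := x⁻¹ * (m * x * m⁻¹) with he
  have heP : e ∈ (P : Subgroup G) := mul_mem (inv_mem hx) (conjOf_mem_normalizer hm hx)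
  have hec : Commute s e := by
    have hxs' : x * s * x⁻¹ = s * c.z :=
      (c.comm_cases hs hx).resolve_left fun h => hxs (mul_inv_eq_iff_eq_mul.1 h).symm
    have hy : (m * x * m⁻¹) * s * (m * x * m⁻¹)⁻¹ = s * c.z := by
      conv_lhs => rw [← hms]
      rw [show m * x * m⁻¹ * (m * s * m⁻¹) * (m * x * m⁻¹)⁻¹ = m * (x * s * x⁻¹) * m⁻¹ by group, hxs']
      calc m * (s * c.z) * m⁻¹ = (m * s * m⁻¹) * (m * c.z * m⁻¹) := by group
        _ = _ := by rw [hms, c.normalizer_fix_z hm]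
    refine (mul_inv_eq_iff_eq_mul.1 (?_ : e * s * e⁻¹ = s)).symm
    calc e * s * e⁻¹ = x⁻¹ * ((m * x * m⁻¹) * s * (m * x * m⁻¹)⁻¹) * x := by rw [he]; group
      _ = s := by rw [hy, ← hxs']; group
  let T : Subgroup G := (normalizer ((P : Subgroup G) : Set G)) ⊓
    { carrier := {k | k ∈ normalizer ((P : Subgroup G) : Set G) ∧ x⁻¹ * (k * x * k⁻¹) ∈ Zc P}
      one_mem' := ⟨one_mem _, by simp⟩
      mul_mem' := fun {a b} ha hb => ⟨mul_mem ha.1 hb.1, by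
        rw [show x⁻¹ * (a * b * x * (a * b)⁻¹) = x⁻¹ * (a * x * a⁻¹) * (a * (x⁻¹ * (b * x * b⁻¹)) * a⁻¹) by group]
        exact mul_mem ha.2 (c.normalizer_Zc ha.1 hb.2)⟩
      inv_mem' := fun {a} ha => ⟨inv_mem ha.1, by
        rw [show x⁻¹ * (a⁻¹ * x * a⁻¹⁻¹) = a⁻¹ * (x⁻¹ * (a * x * a⁻¹))⁻¹ * a⁻¹⁻¹ by group]
        exact c.normalizer_Zc (inv_mem ha.1) (inv_mem ha.2)⟩ }
  have heZ : e ∈ Zc P := by
    rcases c.cent_dichotomy hs heP hsZ hec with h | h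
    · exact h
    have h2 : m ^ 2 ^ 1 ∈ T := by
      refine ⟨pow_mem hm _, pow_mem hm _, ?_⟩
      have hss : s⁻¹ = s := inv_eq_of_mul_eq_one_right (c.cl_sq hcl)
      rw [hss] at h
      have he' : e = s * (s * e) := by rw [← mul_assoc, c.cl_sq hcl, one_mul]
      have : x⁻¹ * (m ^ 2 ^ 1 * x * (m ^ 2 ^ 1)⁻¹) = (s * e) * (m * (s * e) * m⁻¹) := by
        calc x⁻¹ * (m ^ 2 ^ 1 * x * (m ^ 2 ^ 1)⁻¹) = e * (m * e * m⁻¹) := by
              rw [he, pow_one, pow_two]; group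
          _ = e * ((m * s * m⁻¹) * (m * (s * e) * m⁻¹)) := by
              congr 1
              calc m * e * m⁻¹ = m * (s * (s * e)) * m⁻¹ := by rw [← he']
                _ = _ := by group
          _ = e * s * (m * (s * e) * m⁻¹) := by rw [hms, mul_assoc e s]
          _ = _ := by rw [← hec.eq]
      rw [this]
      exact mul_mem h (c.normalizer_Zc hm h)
    exact (mem_of_pow_two hmo 1 h2).2.2
  have hind : ∀ i : ℕ, x⁻¹ * (m ^ i * x * (m ^ i)⁻¹) ∈ Zc P ∧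
      (e ^ i)⁻¹ * (x⁻¹ * (m ^ i * x * (m ^ i)⁻¹)) ∈ c.E := by
    intro i
    induction i with
    | zero => simp
    | succ i ih =>
      have hstep : x⁻¹ * (m ^ (i + 1) * x * (m ^ (i + 1))⁻¹) =
          e * (m * (x⁻¹ * (m ^ i * x * (m ^ i)⁻¹)) * m⁻¹) := by rw [he, pow_succ']; group
      refine ⟨hstep ▸ mul_mem heZ (c.normalizer_Zc hm ih.1), ?_⟩
      set ei := x⁻¹ * (m ^ i * x * (m ^ i)⁻¹)
      rw [hstep, pow_succ', show (e * e ^ i)⁻¹ * (e * (m * ei * m⁻¹)) =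
        ((e ^ i)⁻¹ * ei) * (ei⁻¹ * (m * ei * m⁻¹)) by group]
      exact mul_mem ih.2 (c.E_gen ih.1 hm)
  have hk : e ^ orderOf m ∈ c.E := by
    have := (hind (orderOf m)).2
    rw [pow_orderOf_eq_one] at this
    simpa using this
  have hcop : Nat.Coprime (orderOf m) (orderOf e) := by
    haveI : Fact (Nat.Prime 2) := ⟨Nat.prime_two⟩
    obtain ⟨i, hi⟩ := IsPGroup.iff_orderOf.1 P.2 ⟨e, heP⟩
    rw [Subgroup.orderOf_mk] at hi
    rw [hi]
    exact Nat.Coprime.pow_right i (Nat.coprime_two_right.2 hmo)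
  obtain ⟨j, hj⟩ := exists_pow_eq_self_of_coprime hcop
  rw [← hj]
  exact pow_mem hk j

theorem focal_gen {s : G} (hs : s ∈ (P : Subgroup G)) (hsZ : s ∉ Zc P) (hcl : c.Cl s) {x g : G}
    (hx : x ∈ (P : Subgroup G)) (hy : g * x * g⁻¹ ∈ (P : Subgroup G)) :
    x⁻¹ * (g * x * g⁻¹) ∈ c.S₁ ⊔ c.E := by
  have caseA : ∀ {x g : G}, x ∈ Zc P → g * x * g⁻¹ ∈ (P : Subgroup G) →
      x⁻¹ * (g * x * g⁻¹) ∈ c.S₁ ⊔ c.E := by
    intro x g hx hy
    by_cases hyZ : g * x * g⁻¹ ∈ Zc P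
    · obtain ⟨n, hn, e⟩ := c.fusion_Zc hx hyZ
      rw [e]; exact mem_sup_right (c.E_gen hx hn)
    · obtain ⟨w, n, hw, hwP, -, hn, e, -⟩ := c.fusion_in_out hx hy hyZ rfl
      rw [e, ← mul_assoc x⁻¹ w, ← (c.central (inv_mem hx) hwP).eq, mul_assoc w x⁻¹, ← mul_assoc x⁻¹ c.z,
        (c.central c.z_mem (inv_mem (c.Zc_le hx))).eq, mul_assoc c.z]
      exact mul_mem (mem_sup_left (c.cl_mem hwP hw))
        (mul_mem (mem_sup_left c.z_mem_S₁) (mem_sup_right (c.E_gen hx hn)))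
  set y := g * x * g⁻¹ with hy_def
  by_cases hnc : c.ConjZ y
  · obtain ⟨k, hk⟩ := hnc
    have h1 := caseA (g := (k * g)⁻¹) hk (by rwa [show (k * g)⁻¹ * (k * y * k⁻¹) * (k * g)⁻¹⁻¹ = x by rw [hy_def]; group])
    have h2 := caseA (g := k⁻¹) hk (by rwa [show k⁻¹ * (k * y * k⁻¹) * k⁻¹⁻¹ = y by group])
    rw [show (k * g)⁻¹ * (k * y * k⁻¹) * (k * g)⁻¹⁻¹ = x by rw [hy_def]; group] at h1
    rw [show k⁻¹ * (k * y * k⁻¹) * k⁻¹⁻¹ = y by group] at h2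
    have := mul_mem (inv_mem h1) h2
    rwa [show ((k * y * k⁻¹)⁻¹ * x)⁻¹ * ((k * y * k⁻¹)⁻¹ * y) = x⁻¹ * y by group] at this
  obtain ⟨n, h, hn, hu, huZ, hh, e⟩ := c.fusion_out hx hy hnc hy_def.symm
  set u := n * x * n⁻¹ with hu_def
  have hyZ : y ∉ Zc P := fun h => hnc ⟨1, by simpa using h⟩
  have hxu := c.focal_gen_normalizer hs hsZ hcl hx hn
  rw [← hu_def] at hxu
  suffices huy : u⁻¹ * y ∈ c.S₁ ⊔ c.E by
    have := mul_mem hxu huy
    rwa [mul_assoc, mul_inv_cancel_left] at this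
  have key : ∀ {h : G}, h ∈ normalizer (c.CP y : Set G) → h * c.z * h⁻¹ = c.z →
      u⁻¹ * (h * u * h⁻¹) ∈ c.S₁ ⊔ c.E := fun {h} hh hz => by
    obtain ⟨n', hn', e'⟩ := c.fixz hy hyZ hh hz
    rw [e' u hu]
    exact c.focal_gen_normalizer hs hsZ hcl (c.mem_CP.1 hu).1 hn'
  have hw : h * c.z * h⁻¹ ∈ c.CP y := conjOf_mem_normalizer hh (c.Zc_le_CP hy c.z_mem)
  by_cases hwz : h * c.z * h⁻¹ = c.z
  · rw [e]; exact key hh hwz
  set w := h * c.z * h⁻¹ with hw_def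
  have hclw : c.Cl w := ⟨h, rfl⟩
  have hwP := (c.mem_CP.1 hw).1
  have hwZ : w ∉ Zc P := fun h' => hwz (c.cl_Zc hclw h')
  set w' := w * c.z
  have hw'Z : w' ∉ Zc P := c.mul_z_not hwZ
  have hw'P : w' ∈ (P : Subgroup G) := mul_mem hwP c.z_P
  have hclw' : c.Cl w' := c.cl_mul_z hwP hwZ hclw
  have hCP : c.CP w' = c.CP y := c.CP_eq hy hyZ (mul_mem hw (c.Zc_le_CP hy c.z_mem)) hw'Z
  obtain ⟨b, hb⟩ := c.exists_turn hw'P hw'Z hclw'
  have hbz : b * c.z * b⁻¹ = w := by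
    rw [hb.z_to]
    show c.z * (w * c.z) = w
    rw [← mul_assoc, ← (c.central c.z_mem hwP).eq, mul_assoc, c.z_sq, mul_one]
  have hbn : b ∈ normalizer (c.CP y : Set G) := hCP ▸ mem_normalizer_of_le fun a ha => by
    rcases hb.act a ha with e | e <;> rw [e]
    exacts [ha, mul_mem ha (c.mem_CP.2 ⟨hw'P, Commute.refl w'⟩)]
  have h0z : b⁻¹ * h * c.z * (b⁻¹ * h)⁻¹ = c.z := by
    calc b⁻¹ * h * c.z * (b⁻¹ * h)⁻¹ = b⁻¹ * w * b := by rw [hw_def]; group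
      _ = c.z := by rw [← hbz]; group
  have h1 := key (mul_mem (inv_mem hbn) hh) h0z
  set v := b⁻¹ * h * u * (b⁻¹ * h)⁻¹ with hv
  have hvQ : v ∈ c.CP y := conjOf_mem_normalizer (mul_mem (inv_mem hbn) hh) hu
  have ey : y = b * v * b⁻¹ := by rw [e, hv]; group
  rcases hb.act v (hCP ▸ hvQ) with e' | e' <;> rw [ey, e']
  · exact h1
  · rw [← mul_assoc]; exact mul_mem h1 (mem_sup_left (c.cl_mem hw'P hclw'))

theorem focal_le {s : G} (hs : s ∈ (P : Subgroup G)) (hsZ : s ∉ Zc P) (hcl : c.Cl s) :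
    focalSubgroup (P : Subgroup G) ≤ c.S₁ ⊔ c.E := by
  rw [Subgroup.focalSubgroup_def, closure_le]
  rintro e ⟨he, x, hx, u, rfl⟩
  have hy : u * x⁻¹ * u⁻¹ ∈ (P : Subgroup G) := by
    rw [show u * x⁻¹ * u⁻¹ = x⁻¹ * ⁅x, u⁆ by rw [commutatorElement_def]; group]
    exact mul_mem (inv_mem hx) he
  have := c.focal_gen hs hsZ hcl (inv_mem hx) hy
  rwa [show x⁻¹⁻¹ * (u * x⁻¹ * u⁻¹) = ⁅x, u⁆ by rw [commutatorElement_def]; group] at this

end Cfsg.Lib.CentralFour.Ctx
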