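import Cfsg.Agent.CentralIndexFour.Abelian
import Cfsg.Agent.CentralIndexFour.Cover
import Cfsg.Agent.Walter.Main
import Cfsg.Agent.Walter.Consumers.Types
import Cfsg.Agent.FourGroupGW.Main
import Cfsg.Agent.GWDihedral.Shell.Target
import Cfsg.Prelude.Def_CaseTheorems

/-!
Quasisimple groups with a nonabelian Sylow 2-subgroup with centre of index four, from the dihedral theorem.
-/

set_option autoImplicit false
set_option linter.unusedSectionVars false
set_option linter.style.haveILetI false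

namespace Cfsg.Lib.CentralFour

open Subgroup

universe u

variable {G : Type u} [Group G] [Finite G]

/-- The conclusion of the theorem. -/
def Concl (G : Type u) [Group G] [Finite G] (P : Sylow 2 G) : Prop :=
  Nat.card (P : Subgroup G) = 8 ∧
    (Nonempty (G ≃* alternatingGroup (Fin 7)) ∨
     (Nat.card (Subgroup.center G) = 3 ∧ Nonempty (G ⧸ Subgroup.center G ≃* alternatingGroup (Fin 7))) ∨
     ∃ (F : Type) (_ : Field F) (_ : Fintype F), Odd (Fintype.card F) ∧
       Nonempty (G ⧸ Subgroup.center G ≃* Matrix.ProjectiveSpecialLinearGroup (Fin 2) F))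

namespace Ctx

variable {P : Sylow 2 G} (c : Ctx P)
include c

theorem center_inf (hperf : commutator G = ⊤) {a : G} (ha : a ∈ center G) (haP : a ∈ (P : Subgroup G)) :
    a = 1 ∨ a = c.z := by
  haveI : Fact (Nat.Prime 2) := ⟨Nat.prime_two⟩
  set L : Subgroup (P : Subgroup G) := zpowers ⟨c.z, c.z_P⟩ with hL
  have hLmem : ∀ {b : (P : Subgroup G)}, b ∈ L → b = 1 ∨ b = ⟨c.z, c.z_P⟩ := fun {b} hb => by
    obtain ⟨j, rfl⟩ := mem_zpowers_iff.1 hb
    have h2 : (⟨c.z, c.z_P⟩ : (P : Subgroup G)) * ⟨c.z, c.z_P⟩ = 1 := Subtype.ext c.z_sq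
    rcases Int.even_or_odd j with ⟨i, rfl⟩ | ⟨i, rfl⟩
    · exact Or.inl (by rw [← two_mul, zpow_mul, zpow_two, h2, one_zpow])
    · exact Or.inr (by rw [zpow_add, zpow_mul, zpow_two, h2, one_zpow, one_mul, zpow_one])
  haveI : L.Normal := ⟨fun v hv g => by
    rcases hLmem hv with rfl | rfl
    · simp
    · convert hv using 1
      exact Subtype.ext (by push_cast; rw [(c.central c.z_mem g.2).eq, mul_inv_cancel_right])⟩
  have h := central_mem_of_perfect hperf P L (fun u v => ?_) ha haP
  · rcases hLmem h with e | e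
    exacts [Or.inl (congrArg Subtype.val e), Or.inr (congrArg Subtype.val e)]
  · rcases c.comm_cases v.2 u.2 with e | e
    · have h1 : u * v * u⁻¹ * v⁻¹ = 1 := Subtype.ext (by push_cast; rw [e, mul_inv_cancel])
      rw [h1]; exact one_mem L
    · have h1 : u * v * u⁻¹ * v⁻¹ = ⟨c.z, c.z_P⟩ :=
        Subtype.ext (by push_cast; rw [e, (c.central c.z_mem v.2).eq, mul_inv_cancel_right])
      rw [h1]; exact mem_zpowers _

theorem ctx_card_P (hidx : (Subgroup.center (P : Subgroup G)).index = 4) :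
    Nat.card (P : Subgroup G) = 4 * Nat.card (Zc P) := by
  have h : (Zc P).subgroupOf (P : Subgroup G) = center (P : Subgroup G) := by
    ext a
    rw [mem_subgroupOf, mem_Zc, mem_center_iff]
    exact ⟨fun h b => Subtype.ext (h.2 b b.2), fun h => ⟨a.2, fun q hq => congrArg Subtype.val (h ⟨q, hq⟩)⟩⟩
  rw [← Nat.card_congr (subgroupOfEquivOfLe (c.Zc_le : Zc P ≤ (P : Subgroup G))).toEquiv, h, ← hidx, mul_comm,
    card_mul_index]

/-- The case where `z` is central. -/
theorem central_case (hq : Cfsg.IsQuasisimple G) (hns : ¬ IsMulCommutative (G ⧸ center G))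
    (hidx : (Subgroup.center (P : Subgroup G)).index = 4) (hz : c.z ∈ center G) : Concl G P := by
  haveI := hq.2
  haveI : Fact (Nat.Prime 2) := ⟨Nat.prime_two⟩
  have hperf : commutator G = ⊤ := Group.isPerfect_def.1 hq.1
  set π := QuotientGroup.mk' (center G)
  set Q := P.mapSurjective (QuotientGroup.mk'_surjective (center G))
  have hQ : (Q : Subgroup (G ⧸ center G)) = (P : Subgroup G).map π := rfl
  have hzπ : π c.z = 1 := (QuotientGroup.eq_one_iff _).2 hz
  have hc : ∀ a ∈ (Q : Subgroup (G ⧸ center G)), ∀ b ∈ (Q : Subgroup (G ⧸ center G)), a * b = b * a := by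
    rintro _ ⟨a, ha, rfl⟩ _ ⟨b, hb, rfl⟩
    rcases c.comm_cases hb ha with e | e
    · rw [← map_mul, ← map_mul, mul_inv_eq_iff_eq_mul.1 e]
    · rw [← map_mul, ← map_mul, mul_inv_eq_iff_eq_mul.1 e, map_mul, map_mul, hzπ, mul_one, ← map_mul]
  have hab : ∀ S : Sylow 2 (G ⧸ center G), ∀ x ∈ (S : Subgroup (G ⧸ center G)),
      ∀ y ∈ (S : Subgroup (G ⧸ center G)), x * y = y * x := fun S => by
    obtain ⟨g, rfl⟩ := MulAction.exists_smul_eq (G ⧸ center G) Q S
    intro x hx y hy
    rw [Sylow.coe_subgroup_smul] at hx hy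
    obtain ⟨a, ha, rfl⟩ := hx
    obtain ⟨b, hb, rfl⟩ := hy
    show MulAut.conj g a * MulAut.conj g b = MulAut.conj g b * MulAut.conj g a
    rw [← map_mul, ← map_mul, hc a ha b hb]
  have hel := Walter.Consumers.elem_of_typed (Walter.walterProp (G ⧸ center G) hns hab)
    (fun S => ⟨⟨fun a b => Subtype.ext (hab S a a.2 b b.2)⟩⟩) Q
  set R := (Zc P).map π
  have hcent : ∀ a ∈ (P : Subgroup G), π a = 1 → a = 1 ∨ a = c.z := fun a ha h =>
    c.center_inf hperf ((QuotientGroup.eq_one_iff a).1 h) ha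
  have hcard : ∀ H : Subgroup G, H ≤ (P : Subgroup G) → c.z ∈ H → 2 * Nat.card (H.map π) = Nat.card H := by
    intro H hH hzH
    have hk : (π.subgroupMap H).ker = zpowers ⟨c.z, hzH⟩ := by
      refine le_antisymm (fun a ha => ?_) (zpowers_le.2 (Subtype.ext hzπ))
      rcases hcent a (hH a.2) (congrArg Subtype.val ha) with e | e
      · rw [show a = 1 from Subtype.ext e]; exact one_mem _
      · rw [show a = ⟨c.z, hzH⟩ from Subtype.ext e]; exact mem_zpowers _
    have h2 : Nat.card (π.subgroupMap H).ker = 2 := by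
      rw [hk, Nat.card_zpowers, Subgroup.orderOf_mk, c.z_order]
    have := card_mul_index (π.subgroupMap H).ker
    rw [index_ker, MonoidHom.range_eq_top.2 (π.subgroupMap_surjective H), card_top, h2] at this
    exact this
  have hinv : ∀ n ∈ normalizer ((Q : Subgroup (G ⧸ center G)) : Set (G ⧸ center G)), ∀ r ∈ R, n * r * n⁻¹ ∈ R := by
    intro n hn r hr
    obtain ⟨n, rfl⟩ := QuotientGroup.mk'_surjective (center G) n
    obtain ⟨ζ, hζ, rfl⟩ := hr
    have hnP : n ∈ normalizer ((P : Subgroup G) : Set G) := mem_normalizer_of_le fun p hp => by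
      have h1 : π n * π p * (π n)⁻¹ ∈ (Q : Subgroup (G ⧸ center G)) :=
        conjOf_mem_normalizer hn (mem_map_of_mem _ hp)
      rw [← map_mul, ← map_inv, ← map_mul, hQ] at h1
      obtain ⟨p', hp', e⟩ := h1
      have hζ' : p'⁻¹ * (n * p * n⁻¹) ∈ center G := QuotientGroup.eq.1 e
      obtain ⟨i, hi⟩ := P.2 ⟨p, hp⟩
      obtain ⟨j, hj⟩ := P.2 ⟨p', hp'⟩
      have hi' : p ^ 2 ^ i = 1 := congrArg Subtype.val hi
      have hj' : p' ^ 2 ^ j = 1 := congrArg Subtype.val hj
      set ζ := p'⁻¹ * (n * p * n⁻¹)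
      have hk : ζ ^ 2 ^ (i + j) = 1 := by
        have hcm : Commute p' ζ := mem_center_iff.1 hζ' p'
        have h2 : (p' * ζ) ^ 2 ^ (i + j) = 1 := by
          rw [mul_inv_cancel_left, conj_pow, pow_add, pow_mul, hi', one_pow, mul_one, mul_inv_cancel]
        rw [hcm.mul_pow, pow_add, mul_comm, pow_mul p', hj', one_pow, one_mul] at h2
        rwa [pow_add, mul_comm]
      have := mul_mem hp' (central_pElement_mem hζ' hk P)
      rwa [mul_inv_cancel_left] at this
    refine ⟨n * ζ * n⁻¹, c.normalizer_Zc hnP hζ, ?_⟩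
    show π (n * ζ * n⁻¹) = π n * π ζ * (π n)⁻¹
    rw [map_mul, map_mul, map_inv]
  have hP := hcard (P : Subgroup G) le_rfl c.z_P
  have hR := hcard (Zc P) c.Zc_le c.z_mem
  have h4 := c.ctx_card_P hidx
  rw [← hQ] at hP
  have hne : (Q : Subgroup (G ⧸ center G)) ≠ ⊥ := fun e => by
    rw [e, card_bot] at hP
    have := Nat.card_pos (α := Zc P)
    omega
  have hR1 : Nat.card R = 1 := by
    rcases invariant_trivial hns Q hc hel hne R (map_mono c.Zc_le) hinv with e | e
    · rw [e, card_bot]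
    · change R = _ at e
      have h' : Nat.card R = Nat.card (Q : Subgroup (G ⧸ center G)) := by rw [e]
      have := Nat.card_pos (α := Zc P)
      change 2 * Nat.card R = _ at hR
      omega
  change 2 * Nat.card R = _ at hR
  have hQ4 : Nat.card (Q : Subgroup (G ⧸ center G)) = 4 := by omega
  have hk : IsKleinFour (Q : Subgroup (G ⧸ center G)) := by
    refine IsKleinFour.mk hQ4 ?_
    have hd : Monoid.exponent (Q : Subgroup (G ⧸ center G)) ∣ 2 :=
      Monoid.exponent_dvd_of_forall_pow_eq_one fun a => Subtype.ext (by push_cast; rw [pow_two]; exact hel a a.2)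
    rcases (Nat.dvd_prime Nat.prime_two).1 hd with h | h
    · have := Monoid.exp_eq_one_iff.1 h
      have := (Finite.card_le_one_iff_subsingleton (α := (Q : Subgroup (G ⧸ center G)))).2 this
      omega
    · exact h
  obtain ⟨F, i1, i2, h8, -, he⟩ := Cfsg.Lib.GW.fourGroupProp (G ⧸ center G) Q hk
  refine ⟨by omega, Or.inr (Or.inr ⟨F, i1, i2, Nat.odd_iff.2 (by omega), he⟩)⟩

/-- The case where `z` is not central. -/
theorem noncentral_case (hD : GWD.DihedralProp.{u}) (hq : Cfsg.IsQuasisimple G)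
    (hns : ¬ IsMulCommutative (G ⧸ center G)) (hz : c.z ∉ center G) : Concl G P := by
  haveI := hq.2
  haveI : Fact (Nat.Prime 2) := ⟨Nat.prime_two⟩
  have hperf : commutator G = ⊤ := Group.isPerfect_def.1 hq.1
  have hdis : ∀ a ∈ (P : Subgroup G), a ∈ center G → a = 1 := fun a haP ha =>
    (c.center_inf hperf ha haP).resolve_right fun e => hz (e ▸ ha)
  set π := QuotientGroup.mk' (center G)
  set Q := P.mapSurjective (QuotientGroup.mk'_surjective (center G))
  have hinj : ∀ a ∈ (P : Subgroup G), ∀ b ∈ (P : Subgroup G), π a = π b → a = b := fun a ha b hb h =>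
    inv_mul_eq_one.1 (hdis _ (mul_mem (inv_mem ha) hb) (QuotientGroup.eq.1 h))
  let f : (P : Subgroup G) ≃* (Q : Subgroup (G ⧸ center G)) :=
    MulEquiv.ofBijective (π.subgroupMap (P : Subgroup G))
      ⟨fun a b h => Subtype.ext (hinj a a.2 b b.2 (congrArg Subtype.val h)), π.subgroupMap_surjective _⟩
  have hQP : ∀ a ∈ (P : Subgroup G), π a ∈ (Q : Subgroup (G ⧸ center G)) := fun a ha => mem_map_of_mem π ha
  let d : Ctx Q :=
    { z := π c.z
      x₀ := π c.x₀
      y₀ := π c.y₀
      x₀P := hQP _ c.x₀P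
      y₀P := hQP _ c.y₀P
      comm := by simp only [← c.comm, map_mul, map_inv]
      z1 := fun h => hz ((QuotientGroup.eq_one_iff _).1 h)
      cases := fun p hp => by
        obtain ⟨a, ha, rfl⟩ := hp
        obtain ⟨ζ, hζ, e⟩ := c.cases a ha
        refine ⟨π ζ, mem_Zc.2 ⟨hQP _ (c.Zc_le hζ), fun q hq => ?_⟩, ?_⟩
        · obtain ⟨b, hb, rfl⟩ := hq
          exact (c.central hζ hb).map π
        · rcases e with rfl | rfl | rfl | rfl
          exacts [Or.inl rfl, Or.inr (Or.inl (map_mul π _ _)), Or.inr (Or.inr (Or.inl (map_mul π _ _))),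
            Or.inr (Or.inr (Or.inr (by rw [map_mul, map_mul])))] }
  obtain ⟨g⟩ := d.dihedral hns
  have hcard : Nat.card (P : Subgroup G) = 8 := by
    rw [Nat.card_congr (f.trans g).toEquiv, DihedralGroup.nat_card]
  have hodd : Odd (Nat.card (center G)) := by
    rw [← Nat.not_even_iff_odd, even_iff_two_dvd]
    intro h
    obtain ⟨⟨a, ha⟩, hao⟩ := exists_prime_orderOf_dvd_card' 2 h
    rw [Subgroup.orderOf_mk] at hao
    rw [hdis a (central_pElement_mem ha (k := 1) (by rw [pow_one, ← hao, pow_orderOf_eq_one]) P) ha,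
      orderOf_one] at hao
    exact absurd hao (by norm_num)
  refine ⟨hcard, ?_⟩
  rcases hD (G ⧸ center G) Q 4 (by norm_num) ⟨g⟩ with ⟨F, i1, i2, hF, -, he⟩ | ⟨⟨e⟩⟩
  · exact Or.inr (Or.inr ⟨F, i1, i2, hF, he⟩)
  · rcases center_dvd_three hperf hodd e with h | h
    · have hb : center G = ⊥ := eq_bot_of_card_eq _ h
      exact Or.inl ⟨((QuotientGroup.quotientMulEquivOfEq hb).trans QuotientGroup.quotientBot).symm.trans e⟩
    · exact Or.inr (Or.inl ⟨h, ⟨e⟩⟩)

end Ctx

/-- S4594 from the dihedral theorem. -/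
theorem main (hD : GWD.DihedralProp.{u}) (hq : Cfsg.IsQuasisimple G) (P : Sylow 2 G)
    (hna : ¬ IsMulCommutative (P : Subgroup G)) (hidx : (Subgroup.center (P : Subgroup G)).index = 4) :
    Concl G P := by
  obtain ⟨c⟩ := exists_ctx P hna hidx
  haveI := hq.2
  have hns : ¬ IsMulCommutative (G ⧸ center G) := fun h => by
    have hperf : commutator G = ⊤ := Group.isPerfect_def.1 hq.1
    have hle : commutator G ≤ center G := by
      rw [commutator_def, commutator_le]
      intro a _ b _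
      rw [← QuotientGroup.eq_one_iff, commutatorElement_def]
      simp only [QuotientGroup.mk_mul, QuotientGroup.mk_inv]
      rw [h.is_comm.comm (a : G ⧸ center G) b]
      group
    rw [hperf, top_le_iff] at hle
    obtain ⟨q, hq1⟩ := exists_ne (1 : G ⧸ center G)
    obtain ⟨g, rfl⟩ := QuotientGroup.mk'_surjective (center G) q
    exact hq1 ((QuotientGroup.eq_one_iff g).2 (hle ▸ mem_top g))
  by_cases hz : c.z ∈ center G
  · exact c.central_case hq hns hidx hz
  · exact c.noncentral_case hD hq hns hz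

end Cfsg.Lib.CentralFour
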