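import Cfsg.Agent.CentralIndexFour.Frame

/-!
The conjugates of `z` in a Sylow 2-subgroup with centre of index four, and the elements turning `z` into
`z s` for such a conjugate `s` outside the centre.
-/

set_option autoImplicit false
set_option linter.unusedSectionVars false
set_option linter.style.haveILetI false

namespace Cfsg.Lib.CentralFour.Ctx

open Subgroup

universe u

variable {G : Type u} [Group G] [Finite G] {P : Sylow 2 G} (c : Ctx P)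
include c

/-- Being conjugate to `z`. -/
def Cl (x : G) : Prop := ∃ g : G, g * c.z * g⁻¹ = x

theorem cl_self : c.Cl c.z := ⟨1, by group⟩

theorem cl_conj {x : G} (h : c.Cl x) (g : G) : c.Cl (g * x * g⁻¹) := by
  obtain ⟨a, rfl⟩ := h
  exact ⟨g * a, by group⟩

theorem cl_sq {x : G} (h : c.Cl x) : x * x = 1 := by
  obtain ⟨a, rfl⟩ := h
  rw [show a * c.z * a⁻¹ * (a * c.z * a⁻¹) = a * (c.z * c.z) * a⁻¹ by group, c.z_sq, mul_one, mul_inv_cancel]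

theorem cl_ne_one {x : G} (h : c.Cl x) : x ≠ 1 := fun e => by
  obtain ⟨a, rfl⟩ := h
  exact c.z1 (conj_eq_one_iff.1 e)

/-- Elements of the centre fused in the group are fused in the normaliser. -/
theorem fusion_Zc {x g : G} (hx : x ∈ Zc P) (hy : g * x * g⁻¹ ∈ Zc P) :
    ∃ n ∈ normalizer ((P : Subgroup G) : Set G), g * x * g⁻¹ = n * x * n⁻¹ := by
  haveI : Fact (Nat.Prime 2) := ⟨Nat.prime_two⟩
  have key : ∀ ζ ∈ Zc P, (P : Subgroup G) ≤ normalizer ({ζ} : Set G) := fun ζ hζ =>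
    le_set_normalizer_iff.2 fun q hq a ha => by
      rw [Set.mem_singleton_iff] at ha ⊢
      rw [ha, (c.central hζ hq).eq, mul_inv_cancel_right]
  obtain ⟨n, hn, h⟩ := Transfer.burnside_fusion_set P {x} {g * x * g⁻¹} (key x hx) (key _ hy) g (by simp)
  rw [Set.image_singleton, Set.singleton_eq_singleton_iff] at h
  exact ⟨n, hn, h.symm⟩

theorem cl_Zc {x : G} (h : c.Cl x) (hx : x ∈ Zc P) : x = c.z := by
  obtain ⟨g, rfl⟩ := h
  obtain ⟨n, hn, e⟩ := c.fusion_Zc c.z_mem hx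
  rw [e, c.normalizer_fix_z hn]

theorem mul_z_not {p : G} (h : p ∉ Zc P) : p * c.z ∉ Zc P := fun h' => h (by
  have := mul_mem h' (inv_mem c.z_mem)
  rwa [mul_inv_cancel_right] at this)

theorem CP_eq {p q : G} (hp : p ∈ (P : Subgroup G)) (hpZ : p ∉ Zc P) (hq : q ∈ c.CP p) (hqZ : q ∉ Zc P) :
    c.CP q = c.CP p := by
  have hqP := (c.mem_CP.1 hq).1
  have key : ∀ {a b : G}, a ∈ (P : Subgroup G) → a ∉ Zc P → b ∈ c.CP a → b ∉ Zc P → c.CP a ≤ c.CP b :=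
    fun ha haZ hb _ _ hx => c.mem_CP.2 ⟨(c.mem_CP.1 hx).1, c.CP_comm ha haZ hx hb⟩
  exact le_antisymm (key hqP hqZ (c.mem_CP.2 ⟨hp, (c.mem_CP.1 hq).2.symm⟩) hpZ) (key hp hpZ hq hqZ)

theorem card_CP_eq {p q : G} (hp : p ∈ (P : Subgroup G)) (hpZ : p ∉ Zc P) (hq : q ∈ (P : Subgroup G))
    (hqZ : q ∉ Zc P) : Nat.card (c.CP p) = Nat.card (c.CP q) :=
  le_antisymm (c.card_CP_le hq hp hpZ) (c.card_CP_le hp hq hqZ)

/-- An abelian subgroup of `P` of the order of a centraliser is a centraliser. -/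
theorem abelian_eq_CP {R : Subgroup G} (hR : R ≤ (P : Subgroup G)) (hcomm : ∀ a ∈ R, ∀ b ∈ R, Commute a b)
    {p : G} (hp : p ∈ (P : Subgroup G)) (hpZ : p ∉ Zc P) (hc : Nat.card R = Nat.card (c.CP p)) :
    ∃ r ∈ R, r ∉ Zc P ∧ R = c.CP r := by
  obtain ⟨r, hr, hrZ⟩ : ∃ r ∈ R, r ∉ Zc P := by
    by_contra h
    push Not at h
    have h1 : Zc P = c.CP p := eq_of_le_of_card_ge (c.Zc_le_CP hp) (hc ▸ card_le_of_le h)
    exact hpZ (h1 ▸ c.mem_CP.2 ⟨hp, Commute.refl p⟩)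
  refine ⟨r, hr, hrZ, eq_of_le_of_card_ge (fun a ha => c.mem_CP.2 ⟨hR ha, hcomm a ha r hr⟩) ?_⟩
  rw [hc, c.card_CP_eq hp hpZ (hR hr) hrZ]

/-- A conjugation carrying an element of the centre to `y` outside it can be chosen to carry some
centraliser onto `C_P(y)`. -/
theorem exists_pull {x y g : G} (hx : x ∈ Zc P) (hy : y ∈ (P : Subgroup G)) (hyZ : y ∉ Zc P)
    (h : g * x * g⁻¹ = y) : ∃ g' r : G, g' * x * g'⁻¹ = y ∧ r ∈ (P : Subgroup G) ∧ r ∉ Zc P ∧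
      (∀ a ∈ c.CP r, g' * a * g'⁻¹ ∈ c.CP y) ∧ ∀ b ∈ c.CP y, g'⁻¹ * b * g' ∈ c.CP r := by
  have hPC : (P : Subgroup G) ≤ centralizer {x} := fun q hq => mem_centralizer_singleton_iff.2 (c.central hx hq).eq
  set S := (c.CP y).map (MulAut.conj g⁻¹).toMonoidHom
  have hS : IsPGroup 2 S := IsPGroup.map (P.2.to_le (inf_le_left : c.CP y ≤ (P : Subgroup G))) _
  have hSC : S ≤ centralizer {x} := by
    rintro _ ⟨b, hb, rfl⟩
    refine mem_centralizer_singleton_iff.2 ?_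
    have e : x = g⁻¹ * y * g := by rw [← h]; group
    show g⁻¹ * b * g⁻¹⁻¹ * x = x * (g⁻¹ * b * g⁻¹⁻¹)
    have := (c.mem_CP.1 hb).2.eq
    rw [e, inv_inv, show g⁻¹ * b * g * (g⁻¹ * y * g) = g⁻¹ * (b * y) * g by group, this]
    group
  obtain ⟨k, hk, hkS⟩ := exists_conj_into hPC hS hSC
  set g' := g * k⁻¹
  have hkx : k * x = x * k := mem_centralizer_singleton_iff.1 hk
  have hg' : g' * x * g'⁻¹ = y := by
    rw [← h]
    calc g * k⁻¹ * x * (g * k⁻¹)⁻¹ = g * k⁻¹ * (x * k) * g⁻¹ := by group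
      _ = g * x * g⁻¹ := by rw [← hkx]; group
  set R := (c.CP y).map (MulAut.conj g'⁻¹).toMonoidHom
  have hmem : ∀ b ∈ c.CP y, g'⁻¹ * b * g' ∈ R := fun b hb => ⟨b, hb, by simp⟩
  have hRP : R ≤ (P : Subgroup G) := by
    rintro _ ⟨b, hb, rfl⟩
    have := hkS _ ⟨b, hb, rfl⟩
    simpa [g', mul_assoc] using this
  have hRc : ∀ a ∈ R, ∀ b ∈ R, Commute a b := by
    rintro _ ⟨a, ha, rfl⟩ _ ⟨b, hb, rfl⟩
    exact (c.CP_comm hy hyZ ha hb).map (MulAut.conj g'⁻¹).toMonoidHom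
  obtain ⟨r, hr, hrZ, hRr⟩ := c.abelian_eq_CP hRP hRc hy hyZ (card_map_of_injective (MulAut.conj g'⁻¹).injective)
  refine ⟨g', r, hg', hRP hr, hrZ, fun a ha => ?_, fun b hb => hRr ▸ hmem b hb⟩
  rw [← hRr] at ha
  obtain ⟨b, hb, rfl⟩ := ha
  have e : g' * ((MulAut.conj g'⁻¹).toMonoidHom b) * g'⁻¹ = b := by
    show g' * (g'⁻¹ * b * g'⁻¹⁻¹) * g'⁻¹ = b
    group
  rwa [e]

/-- The conjugate of `P` obtained by pulling acts on `C_P(y)` by `a ↦ a` or `a w`, `w` the image of `z`. -/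
theorem pull_action {y g r : G} (h1 : ∀ a ∈ c.CP r, g * a * g⁻¹ ∈ c.CP y)
    (h2 : ∀ b ∈ c.CP y, g⁻¹ * b * g ∈ c.CP r) {q : G} (hq : q ∈ (P : Subgroup G)) :
    ∀ b ∈ c.CP y, (g * q * g⁻¹) * b * (g * q * g⁻¹)⁻¹ = b ∨
      (g * q * g⁻¹) * b * (g * q * g⁻¹)⁻¹ = b * (g * c.z * g⁻¹) := by
  intro b hb
  have := h1
  have e : (g * q * g⁻¹) * b * (g * q * g⁻¹)⁻¹ = g * (q * (g⁻¹ * b * g) * q⁻¹) * g⁻¹ := by group
  rw [e]
  rcases c.comm_cases (c.mem_CP.1 (h2 b hb)).1 hq with h | h <;> rw [h]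
  · exact Or.inl (by group)
  · exact Or.inr (by group)

/-- Two actions `a ↦ a` or `a w` on a centraliser, both nontrivial and fixing `w`, coincide. -/
theorem eq_action' {p w a b : G} (hp : p ∈ (P : Subgroup G)) (hpZ : p ∉ Zc P) (hw : w * w = 1) (hwQ : w ∈ c.CP p)
    (haw : a * w * a⁻¹ = w) (hbw : b * w * b⁻¹ = w)
    (ha : ∀ x ∈ c.CP p, a * x * a⁻¹ = x ∨ a * x * a⁻¹ = x * w)
    (hb : ∀ x ∈ c.CP p, b * x * b⁻¹ = x ∨ b * x * b⁻¹ = x * w)
    (ha1 : ∃ x ∈ c.CP p, a * x * a⁻¹ ≠ x) (hb1 : ∃ x ∈ c.CP p, b * x * b⁻¹ ≠ x) :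
    ∀ x ∈ c.CP p, a * x * a⁻¹ = b * x * b⁻¹ := by
  have cm : ∀ {g x : G}, g * w * g⁻¹ = w → g * (x * w) * g⁻¹ = g * x * g⁻¹ * w := fun {g x} hg => by
    calc g * (x * w) * g⁻¹ = g * x * g⁻¹ * (g * w * g⁻¹) := by group
      _ = _ := by rw [hg]
  have nrm : ∀ {g : G}, (∀ x ∈ c.CP p, g * x * g⁻¹ = x ∨ g * x * g⁻¹ = x * w) →
      g ∈ normalizer (c.CP p : Set G) := fun {g} hg => mem_normalizer_of_le fun x hx => by
    rcases hg x hx with h | h <;> rw [h]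
    exacts [hx, mul_mem hx hwQ]
  have sq : ∀ {g : G}, g * w * g⁻¹ = w → (∀ x ∈ c.CP p, g * x * g⁻¹ = x ∨ g * x * g⁻¹ = x * w) →
      ∀ x ∈ c.CP p, g * (g * x * g⁻¹) * g⁻¹ = x := fun {g} hgw hg x hx => by
    rcases hg x hx with h | h
    · rw [h, h]
    · rw [h, cm hgw, h, mul_assoc, hw, mul_one]
  refine c.eq_action hp hpZ (nrm ha) (nrm hb) (sq haw ha) (sq hbw hb) (fun x hx => ?_) ha1 hb1
  rcases ha x hx with h | h <;> rcases hb x hx with h' | h'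
  · rw [h', h, h']
  · rw [h', cm haw, h, h']
  · rw [h', h, cm hbw, h']
  · rw [h', h, cm haw, cm hbw, h, h']

/-- `b` turns `z` into `z s`. -/
structure IsTurn (s b : G) : Prop where
  z_to : b * c.z * b⁻¹ = c.z * s
  s_fix : b * s * b⁻¹ = s
  act : ∀ a ∈ c.CP s, b * a * b⁻¹ = a ∨ b * a * b⁻¹ = a * s

theorem IsTurn.moves {s b : G} (h : c.IsTurn s b) (hs : s ∈ (P : Subgroup G)) (hcl : c.Cl s) :
    ∃ a ∈ c.CP s, b * a * b⁻¹ ≠ a :=
  ⟨c.z, c.Zc_le_CP hs c.z_mem, fun e => c.cl_ne_one hcl (mul_eq_left.1 (h.z_to.symm.trans e))⟩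

theorem IsTurn.unique {s b b' : G} (h : c.IsTurn s b) (h' : c.IsTurn s b') (hs : s ∈ (P : Subgroup G))
    (hsZ : s ∉ Zc P) (hcl : c.Cl s) : ∀ a ∈ c.CP s, b * a * b⁻¹ = b' * a * b'⁻¹ :=
  c.eq_action' hs hsZ (c.cl_sq hcl) (c.mem_CP.2 ⟨hs, Commute.refl s⟩) h.s_fix h'.s_fix h.act h'.act
    (h.moves c hs hcl) (h'.moves c hs hcl)

theorem exists_turn {s : G} (hs : s ∈ (P : Subgroup G)) (hsZ : s ∉ Zc P) (hcl : c.Cl s) :
    ∃ b, c.IsTurn s b := by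
  obtain ⟨g0, hg0⟩ := hcl
  obtain ⟨g, r, hg, hr, hrZ, h1, h2⟩ := c.exists_pull c.z_mem hs hsZ hg0
  have hz' := h2 _ (c.Zc_le_CP hs c.z_mem)
  have hz'Z : g⁻¹ * c.z * g ∉ Zc P := fun h => hsZ (by
    have e := c.cl_Zc ⟨g⁻¹, by group⟩ h
    have : g * c.z * g⁻¹ = c.z := by
      calc g * c.z * g⁻¹ = g * (g⁻¹ * c.z * g) * g⁻¹ := by rw [e]
        _ = c.z := by group
    rw [← hg, this]
    exact c.z_mem)
  obtain ⟨q, hq, hqm⟩ := c.exists_mover (c.mem_CP.1 hz').1 hz'Z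
  refine ⟨g * q * g⁻¹, ?_, ?_, fun a ha => ?_⟩
  · rw [show g * q * g⁻¹ * c.z * (g * q * g⁻¹)⁻¹ = g * (q * (g⁻¹ * c.z * g) * q⁻¹) * g⁻¹ by group, hqm, ← hg]
    group
  · rw [← hg, show g * q * g⁻¹ * (g * c.z * g⁻¹) * (g * q * g⁻¹)⁻¹ = g * (q * c.z * q⁻¹) * g⁻¹ by group,
      (c.central c.z_mem hq).eq, mul_inv_cancel_right]
  · have := c.pull_action h1 h2 hq a ha
    rwa [hg] at this

theorem cl_mul_z {s : G} (hs : s ∈ (P : Subgroup G)) (hsZ : s ∉ Zc P) (hcl : c.Cl s) : c.Cl (s * c.z) := by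
  obtain ⟨b, hb⟩ := c.exists_turn hs hsZ hcl
  have := c.cl_conj c.cl_self b
  rwa [hb.z_to, ← (c.central c.z_mem hs).eq] at this

/-- A coset of the centre holds at most two conjugates of `z`. -/
theorem cl_two {s s' : G} (hs : s ∈ (P : Subgroup G)) (hsZ : s ∉ Zc P) (hcl : c.Cl s) (hs' : s' ∈ c.CP s)
    (hs'Z : s' ∉ Zc P) (hcl' : c.Cl s') : s' = s ∨ s' = s * c.z := by
  have hss : s⁻¹ = s := inv_eq_of_mul_eq_one_right (c.cl_sq hcl)
  have hs'P := (c.mem_CP.1 hs').1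
  obtain ⟨b, hb⟩ := c.exists_turn hs hsZ hcl
  have hζ := ((c.mem_CP_iff hs hsZ).1 hs').resolve_left hs'Z
  rw [hss] at hζ
  by_cases hcs : c.Cl (s' * s)
  · refine Or.inr ?_
    have h1 : s * s' = c.z := c.cl_Zc (by rwa [← (c.mem_CP.1 hs').2.eq]) hζ
    rw [← h1, ← mul_assoc, c.cl_sq hcl, one_mul]
  refine Or.inl ?_
  have hbs' : b * s' * b⁻¹ = s' := (hb.act s' hs').resolve_right fun e => hcs (e ▸ c.cl_conj hcl' b)
  obtain ⟨b', hb'⟩ := c.exists_turn hs'P hs'Z hcl'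
  have key : b * (c.z * s') * b⁻¹ = c.z * (s * s') := by
    rw [show b * (c.z * s') * b⁻¹ = b * c.z * b⁻¹ * (b * s' * b⁻¹) by group, hb.z_to, hbs', mul_assoc]
  have h2 : c.Cl (c.z * (s * s')) := key ▸ hb'.z_to ▸ c.cl_conj (c.cl_conj c.cl_self b') b
  have h3 := c.cl_Zc h2 (mul_mem c.z_mem hζ)
  calc s' = s * (s * s') := by rw [← mul_assoc, c.cl_sq hcl, one_mul]
    _ = s := by rw [mul_eq_left.1 h3, mul_one]

/-- `z` is no square of an element of the centre. -/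
theorem no_root {s : G} (hs : s ∈ (P : Subgroup G)) (hsZ : s ∉ Zc P) (hcl : c.Cl s) {ζ : G} (hζ : ζ ∈ Zc P) :
    ζ * ζ ≠ c.z := by
  intro e
  obtain ⟨b, hb⟩ := c.exists_turn hs hsZ hcl
  have h1 : b * c.z * b⁻¹ = (b * ζ * b⁻¹) * (b * ζ * b⁻¹) := by rw [← e]; group
  have h2 : (b * ζ * b⁻¹) * (b * ζ * b⁻¹) = c.z := by
    rcases hb.act ζ (c.Zc_le_CP hs hζ) with h | h <;> rw [h]
    · exact e
    · rw [mul_assoc, ← mul_assoc s, (c.central hζ hs).eq, mul_assoc ζ s, c.cl_sq hcl, mul_one, e]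
  rw [h2, hb.z_to] at h1
  exact c.cl_ne_one hcl (mul_eq_left.1 h1)

theorem four_cosets {s t r : G} (hs : s ∈ (P : Subgroup G)) (hsZ : s ∉ Zc P) (ht : t ∈ (P : Subgroup G))
    (hst : ¬ Commute s t) (hr : r ∈ (P : Subgroup G)) :
    r ∈ Zc P ∨ s⁻¹ * r ∈ Zc P ∨ t⁻¹ * r ∈ Zc P ∨ (t * s)⁻¹ * r ∈ Zc P := by
  have moved : ∀ {q : G}, q ∈ (P : Subgroup G) → ¬ Commute s q → q * s * q⁻¹ = s * c.z := fun {q} hq hn =>
    (c.comm_cases hs hq).resolve_left fun h => hn (mul_inv_eq_iff_eq_mul.1 h).symm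
  by_cases h : Commute s r
  · rcases c.cent_dichotomy hs hr hsZ h with h' | h'
    exacts [Or.inl h', Or.inr (Or.inl h')]
  · refine Or.inr (Or.inr ?_)
    have h1 : Commute s (t⁻¹ * r) := by
      refine (mul_inv_eq_iff_eq_mul.1 (?_ : t⁻¹ * r * s * (t⁻¹ * r)⁻¹ = s)).symm
      rw [show t⁻¹ * r * s * (t⁻¹ * r)⁻¹ = t⁻¹ * (r * s * r⁻¹) * t by group, moved hr h, ← moved ht hst]
      group
    rcases c.cent_dichotomy hs (mul_mem (inv_mem ht) hr) hsZ h1 with h' | h'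
    · exact Or.inl h'
    · refine Or.inr ?_
      rwa [mul_inv_rev, mul_assoc]

theorem cl_cases {s t r : G} (hs : s ∈ (P : Subgroup G)) (hsZ : s ∉ Zc P) (hcls : c.Cl s)
    (ht : t ∈ (P : Subgroup G)) (htZ : t ∉ Zc P) (hclt : c.Cl t) (hst : ¬ Commute s t)
    (hr : r ∈ (P : Subgroup G)) (hrZ : r ∉ Zc P) (hclr : c.Cl r) :
    r = s ∨ r = s * c.z ∨ r = t ∨ r = t * c.z := by
  rcases c.four_cosets hs hsZ ht hst hr with h | h | h | h
  · exact absurd h hrZ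
  · rcases c.cl_two hs hsZ hcls ((c.mem_CP_iff hs hsZ).2 (Or.inr h)) hrZ hclr with e | e
    exacts [Or.inl e, Or.inr (Or.inl e)]
  · rcases c.cl_two ht htZ hclt ((c.mem_CP_iff ht htZ).2 (Or.inr h)) hrZ hclr with e | e
    exacts [Or.inr (Or.inr (Or.inl e)), Or.inr (Or.inr (Or.inr e))]
  · exfalso
    set ζ := (t * s)⁻¹ * r with hζ
    have e : r = t * s * ζ := (mul_inv_cancel_left _ _).symm
    have hts : t * s * (t * s) = c.z := by
      have := (c.comm_cases hs ht).resolve_left fun h => hst (mul_inv_eq_iff_eq_mul.1 h).symm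
      rw [inv_eq_of_mul_eq_one_right (c.cl_sq hclt)] at this
      calc t * s * (t * s) = t * s * t * s := by group
        _ = s * c.z * s := by rw [this]
        _ = c.z := by rw [mul_assoc, ← (c.central c.z_mem hs).eq, ← mul_assoc, c.cl_sq hcls, one_mul]
    have h1 := c.cl_sq hclr
    rw [e, mul_assoc, ← mul_assoc ζ, ← (c.central h (mul_mem ht hs)).eq, mul_assoc (t * s) ζ ζ, ← mul_assoc,
      hts] at h1
    refine c.no_root hs hsZ hcls h ?_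
    rw [← c.z_inv]
    exact eq_inv_of_mul_eq_one_right h1

theorem normalizer_odd_fix {m : G} (hm : m ∈ normalizer ((P : Subgroup G) : Set G)) (hodd : Odd (orderOf m))
    {s : G} (hs : s ∈ (P : Subgroup G)) (hcl : c.Cl s) : m * s * m⁻¹ = s := by
  have hz := c.normalizer_fix_z hm
  by_cases hsZ : s ∈ Zc P
  · rw [c.cl_Zc hcl hsZ, hz]
  have fin : ∀ i : ℕ, m ^ 2 ^ i * s * (m ^ 2 ^ i)⁻¹ = s → m * s * m⁻¹ = s := fun i h => by
    have := mem_of_pow_two (H := centralizer {s}) hodd i (mem_centralizer_singleton_iff.2 (mul_inv_eq_iff_eq_mul.1 h))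
    rw [mem_centralizer_singleton_iff.1 this, mul_inv_cancel_right]
  have nZ : ∀ {x : G}, x ∉ Zc P → m * x * m⁻¹ ∉ Zc P := fun {x} hx h => hx (by
    have h' := c.normalizer_Zc (inv_mem hm) h
    rwa [show m⁻¹ * (m * x * m⁻¹) * m⁻¹⁻¹ = x by group] at h')
  have step : ∀ x : G, m * (x * c.z) * m⁻¹ = m * x * m⁻¹ * c.z := fun x => by
    rw [show m * (x * c.z) * m⁻¹ = m * x * m⁻¹ * (m * c.z * m⁻¹) by group, hz]
  set t := m * s * m⁻¹ with ht_def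
  have ht : t ∈ (P : Subgroup G) := conjOf_mem_normalizer hm hs
  have hclt : c.Cl t := c.cl_conj hcl m
  by_cases hst : Commute s t
  · rcases c.cl_two hs hsZ hcl (c.mem_CP.2 ⟨ht, hst.symm⟩) (nZ hsZ) hclt with e | e
    · exact e
    · refine absurd (fin 1 ?_) (by rw [e]; exact fun h => c.z1 (mul_eq_left.1 h))
      rw [pow_one, pow_two, show m * m * s * (m * m)⁻¹ = m * t * m⁻¹ by rw [ht_def]; group, e, step, ← ht_def, e,
        mul_assoc, c.z_sq, mul_one]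
  · have hu : ¬ Commute t (m * t * m⁻¹) := fun h => hst (by
      have := h.map (MulAut.conj m⁻¹).toMonoidHom
      simpa [ht_def, mul_assoc] using this)
    have h2 : m * t * m⁻¹ = s ∨ m * t * m⁻¹ = s * c.z := by
      rcases c.cl_cases hs hsZ hcl ht (nZ hsZ) hclt hst (conjOf_mem_normalizer hm ht) (nZ (nZ hsZ))
          (c.cl_conj hclt m) with e | e | e | e
      · exact Or.inl e
      · exact Or.inr e
      · exact absurd (show Commute t (m * t * m⁻¹) by rw [e]) hu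
      · exact absurd (show Commute t (m * t * m⁻¹) by
          rw [e]; exact (Commute.refl t).mul_right (c.central c.z_mem ht)) hu
    have h4 : m ^ 2 ^ 2 * s * (m ^ 2 ^ 2)⁻¹ = s := by
      rw [show m ^ 2 ^ 2 * s * (m ^ 2 ^ 2)⁻¹ = m * (m * (m * t * m⁻¹) * m⁻¹) * m⁻¹ by
        rw [ht_def]; simp only [show 2 ^ 2 = 4 by rfl, pow_succ, pow_zero, one_mul]; group]
      rcases h2 with e | e
      · rw [e, ← ht_def, e]
      · rw [e, step, ← ht_def, step, e, mul_assoc, c.z_sq, mul_one]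
    exact fin 2 h4

end Cfsg.Lib.CentralFour.Ctx
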